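import Cfsg.Agent.Lib.Recog.Phan.Defs
import Cfsg.Agent.Lib.Pres.SUPairs
import Cfsg.Agent.Lib.Pres.SUPerm

/-!
# Consecutive two-coordinate blocks generate the special unitary group
-/

set_option autoImplicit false

namespace CfsgLib.Recog.Phan

open Matrix
open CfsgLib.Pres.SUn (SOn blk act)

variable {F : Type*} [Field F] {q k l m : ℕ}

/-- The basis vector of the coordinate `i`. -/
noncomputable def ev (m : ℕ) (F : Type*) [Field F] (i : ℕ) (h : i < m) : Fin m → F :=
  Pi.single ⟨i, h⟩ 1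

theorem emb_emb (i a : ℕ) (h : i + k ≤ m) (h' : a + l ≤ k) (x : Cfsg.SU l F q) :
    emb i h (emb a h' x) = emb (i + a) (by omega) x := by
  show blk _ (blk _ x) = blk _ x
  rw [CfsgLib.Pres.SUn.blk_blk]
  congr 2
  ext c
  simp [Nat.add_assoc]

theorem emb_congr {i i' : ℕ} (e : i = i') (h : i + k ≤ m) (x : Cfsg.SU k F q) :
    emb i h x = emb i' (e ▸ h) x := by subst e; rfl

theorem emb_self (h : 0 + m ≤ m) (x : Cfsg.SU m F q) : emb 0 h x = x := by
  refine CfsgLib.Pres.SUn.eq_of_act fun v => funext fun j => ?_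
  have hj : iv 0 h j = j := Fin.ext (by simp)
  have hid : (fun b => v (iv 0 h b)) = v := funext fun b => congrArg v (Fin.ext (by simp))
  conv_lhs => rw [← hj]
  rw [CfsgLib.Pres.SUn.act_blk_in, hid]

/-- A block fixes the basis vectors outside it. -/
theorem act_emb_off [Fintype F] (hF : Fintype.card F = q ^ 2) (i : ℕ) (h : i + k ≤ m)
    (x : Cfsg.SU k F q) {j : ℕ} (hj : j < m) (hout : j < i ∨ i + k ≤ j) :
    act (emb i h x) (ev m F j hj) = ev m F j hj := by
  have hx : emb i h x ∈ SOn (Finset.univ.map (iv i h)) := by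
    rw [← CfsgLib.Pres.SUn.range_blk (CfsgLib.Pres.SUn.q_ne_zero hF)]
    exact ⟨x, rfl⟩
  refine hx ⟨j, hj⟩ fun hmem => ?_
  obtain ⟨a, -, ha⟩ := Finset.mem_map.1 hmem
  have := congrArg Fin.val ha
  simp only [iv_val] at this
  have := a.2
  omega

/-- A block on one of its own basis vectors, coordinatewise. -/
theorem act_emb_in (i : ℕ) (h : i + k ≤ m) (x : Cfsg.SU k F q) (a : Fin k) (v : Fin k → F)
    (w : Fin m → F) (hin : ∀ b, w (iv i h b) = act x (Pi.single a 1) b)
    (hout : ∀ j, (¬ ∃ b, iv i h b = j) → w j = 0) (hj : i + (a : ℕ) < m) :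
    act (emb i h x) (ev m F (i + a) hj) = w := by
  have hcoord : (fun b => (ev m F (i + a) hj) (iv i h b)) = Pi.single a 1 := by
    funext b
    show (Pi.single (⟨i + a, hj⟩ : Fin m) (1 : F) : Fin m → F) (iv i h b) = _
    by_cases e : b = a
    · subst e
      rw [Pi.single_eq_same, show iv i h b = (⟨i + b, hj⟩ : Fin m) from rfl, Pi.single_eq_same]
    · rw [Pi.single_eq_of_ne e, Pi.single_eq_of_ne fun e' =>
        e ((iv i h).injective (e'.trans (Fin.ext rfl : (⟨i + a, hj⟩ : Fin m) = iv i h a)))]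
  funext j
  by_cases hb : ∃ b, iv i h b = j
  · obtain ⟨b, rfl⟩ := hb
    rw [CfsgLib.Pres.SUn.act_blk_in, hcoord, hin]
  · rw [CfsgLib.Pres.SUn.act_blk_out _ _ _ hb, hout j hb]
    exact Pi.single_eq_of_ne (fun e => hb ⟨a, e.symm⟩) _

/-- A two-coordinate block on its two basis vectors. -/
theorem act_emb_two (i : ℕ) (h : i + 2 ≤ m) (x : Cfsg.SU 2 F q) (a : Fin 2) (hj : i + (a : ℕ) < m) :
    act (emb i h x) (ev m F (i + a) hj) =
      act x (Pi.single a 1) 0 • ev m F i (by omega) +
        act x (Pi.single a 1) 1 • ev m F (i + 1) (by omega) := by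
  refine act_emb_in i h x a 0 _ (fun b => ?_) (fun j hb => ?_) hj
  · fin_cases b <;> simp [ev, Pi.single_apply, Fin.ext_iff]
  · simp only [ev, Pi.add_apply, Pi.smul_apply, smul_eq_mul]
    rw [Pi.single_eq_of_ne fun e => hb ⟨0, by rw [e]; exact Fin.ext (by simp)⟩,
      Pi.single_eq_of_ne fun e => hb ⟨1, by rw [e]; exact Fin.ext (by simp)⟩]
    simp

variable [Fintype F] (hF : Fintype.card F = q ^ 2)
include hF

/-- The monomial element `[[0, -1], [1, 0]]`. -/
noncomputable def rot : Cfsg.SU 2 F q :=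
  ⟨⟨!![0, -1; 1, 0], by simp [Matrix.det_fin_two_of]⟩, fun u w => by
    show Cfsg.hermForm 2 F q (!![(0 : F), -1; 1, 0] *ᵥ u) (!![(0 : F), -1; 1, 0] *ᵥ w) = _
    simp only [Cfsg.hermForm, Fin.sum_univ_two, Matrix.mulVec, dotProduct, Matrix.of_apply,
      Matrix.cons_val', Matrix.cons_val_zero, Matrix.cons_val_one, Matrix.cons_val_fin_one]
    simp only [← MaxSub.qConj_apply hF, zero_mul, zero_add, add_zero, one_mul, neg_mul, map_neg,
      neg_neg, mul_neg]
    ring⟩

/-- The diagonal element with entries `c̄, c`. -/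
noncomputable def tor (c : F) (hc : c * c ^ q = 1) : Cfsg.SU 2 F q :=
  ⟨⟨!![c ^ q, 0; 0, c], by rw [Matrix.det_fin_two_of]; linear_combination hc⟩, fun u w => by
    show Cfsg.hermForm 2 F q (!![c ^ q, 0; 0, c] *ᵥ u) (!![c ^ q, 0; 0, c] *ᵥ w) = _
    simp only [Cfsg.hermForm, Fin.sum_univ_two, Matrix.mulVec, dotProduct, Matrix.of_apply,
      Matrix.cons_val', Matrix.cons_val_zero, Matrix.cons_val_one, Matrix.cons_val_fin_one]
    simp only [← MaxSub.qConj_apply hF, zero_mul, zero_add, add_zero, map_mul, MaxSub.qConj_qConj] at hc ⊢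
    linear_combination (u 0 * MaxSub.qConj hF (w 0) + u 1 * MaxSub.qConj hF (w 1)) * hc⟩

theorem act_rot_zero : act (rot hF) (Pi.single 0 1) = Pi.single 1 1 := by
  funext b
  fin_cases b <;> simp [act, rot]

theorem act_rot_one : act (rot hF) (Pi.single 1 1) = -Pi.single 0 1 := by
  funext b
  fin_cases b <;> simp [act, rot]

theorem act_tor_zero (c : F) (hc : c * c ^ q = 1) :
    act (tor hF c hc) (Pi.single 0 1) = c ^ q • Pi.single 0 1 := by
  funext b
  fin_cases b <;> simp [act, tor]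

theorem act_tor_one (c : F) (hc : c * c ^ q = 1) :
    act (tor hF c hc) (Pi.single 1 1) = c • Pi.single 1 1 := by
  funext b
  fin_cases b <;> simp [act, tor]

theorem emb_rot_left (i : ℕ) (h : i + 2 ≤ m) :
    act (emb i h (rot hF)) (ev m F i (by omega)) = ev m F (i + 1) (by omega) := by
  have := act_emb_two i h (rot hF) 0 (by simp; omega)
  simpa [act_rot_zero] using this

theorem emb_rot_right (i : ℕ) (h : i + 2 ≤ m) :
    act (emb i h (rot hF)) (ev m F (i + 1) (by omega)) = -ev m F i (by omega) := by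
  have := act_emb_two i h (rot hF) 1 (by simp; omega)
  simpa [act_rot_one] using this

theorem emb_tor_left (i : ℕ) (h : i + 2 ≤ m) (c : F) (hc : c * c ^ q = 1) :
    act (emb i h (tor hF c hc)) (ev m F i (by omega)) = c ^ q • ev m F i (by omega) := by
  have := act_emb_two i h (tor hF c hc) 0 (by simp; omega)
  simpa [act_tor_zero] using this

theorem emb_tor_right (i : ℕ) (h : i + 2 ≤ m) (c : F) (hc : c * c ^ q = 1) :
    act (emb i h (tor hF c hc)) (ev m F (i + 1) (by omega)) = c • ev m F (i + 1) (by omega) := by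
  have := act_emb_two i h (tor hF c hc) 1 (by simp; omega)
  simpa [act_tor_one] using this

/-- The consecutive two-coordinate blocks generate. -/
theorem gen_top (hq3 : 3 ≤ q) (hm : 2 ≤ m) (P : Subgroup (Cfsg.SU m F q))
    (hP : ∀ (i : ℕ) (h : i + 2 ≤ m) (x : Cfsg.SU 2 F q), emb i h x ∈ P) : P = ⊤ := by
  classical
  have hq := CfsgLib.Pres.SUn.q_ne_zero hF
  have pairs : ∀ (d a : ℕ) (h : a + 1 + d < m),
      (SOn {(⟨a, by omega⟩ : Fin m), ⟨a + 1 + d, h⟩} : Subgroup (Cfsg.SU m F q)) ≤ P := by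
    intro d
    induction d with
    | zero =>
      intro a h g hg
      rw [show ({(⟨a, by omega⟩ : Fin m), ⟨a + 1 + 0, h⟩} : Finset (Fin m)) =
          Finset.univ.map (iv a (by omega : a + 2 ≤ m)) by
        ext b
        simp only [Finset.mem_insert, Finset.mem_singleton, Finset.mem_map, Finset.mem_univ,
          true_and, Fin.exists_fin_two, Fin.ext_iff, iv_val, Fin.val_zero, Fin.val_one]
        omega, ← CfsgLib.Pres.SUn.range_blk hq] at hg
      obtain ⟨x, rfl⟩ := hg
      exact hP _ _ x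
    | succ d ih =>
      intro a h g hg
      set r : Cfsg.SU m F q := emb (a + 1 + d) (by omega : a + 1 + d + 2 ≤ m) (rot hF) with hr
      have hr' : r ∈ P := hP _ _ _
      have key : r⁻¹ * g * r ∈ (SOn {(⟨a, by omega⟩ : Fin m), ⟨a + 1 + d, by omega⟩} :
          Subgroup (Cfsg.SU m F q)) := by
        intro b hb
        simp only [Finset.mem_insert, Finset.mem_singleton, not_or, Fin.ext_iff] at hb
        rw [CfsgLib.Pres.SUn.act_mul, CfsgLib.Pres.SUn.act_mul]
        have hfix : ∀ c : ℕ, ∀ hc : c < m, c ≠ a → c ≠ a + 1 + d + 1 →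
            act g (ev m F c hc) = ev m F c hc := fun c hc h1 h2 =>
          hg ⟨c, hc⟩ (by
            simp only [Finset.mem_insert, Finset.mem_singleton, not_or, Fin.ext_iff]
            exact ⟨h1, h2⟩)
        by_cases hb1 : (b : ℕ) = a + 1 + d + 1
        · rw [show (Pi.single b (1 : F) : Fin m → F) = ev m F (a + 1 + d + 1) (by omega) by
            rw [ev]; congr; exact Fin.ext hb1, hr, emb_rot_right hF,
            show act g (-ev m F (a + 1 + d) (by omega)) = -ev m F (a + 1 + d) (by omega) by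
              rw [← neg_one_smul F, CfsgLib.Pres.SUn.act_smul, hfix _ _ (by omega) (by omega)],
            ← emb_rot_right hF (a + 1 + d) (by omega : a + 1 + d + 2 ≤ m), CfsgLib.Pres.SUn.act_inv_act]
        · rw [show (Pi.single b (1 : F) : Fin m → F) = ev m F b b.2 from rfl, hr,
            act_emb_off hF _ _ _ _ (by omega), hfix _ _ hb.1 hb1]
          exact CfsgLib.Pres.SUn.act_inj r (by
            rw [CfsgLib.Pres.SUn.act_act_inv, hr, act_emb_off hF _ _ _ _ (by omega)])
      have := ih a (by omega) key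
      simpa [mul_assoc] using P.mul_mem (P.mul_mem hr' this) (P.inv_mem hr')
  have anypair : ∀ R : Finset (Fin m), R.card = 2 → (SOn R : Subgroup (Cfsg.SU m F q)) ≤ P := by
    intro R hR
    obtain ⟨x, y, hxy, rfl⟩ := Finset.card_eq_two.1 hR
    rcases Nat.lt_or_gt_of_ne (fun e : (x : ℕ) = y => hxy (Fin.ext e)) with h | h
    · have := pairs ((y : ℕ) - x - 1) x (by omega)
      convert this using 4 <;> ext <;> simp <;> omega
    · rw [Finset.pair_comm]
      have := pairs ((x : ℕ) - y - 1) y (by omega)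
      convert this using 4 <;> ext <;> simp <;> omega
  rw [eq_top_iff, ← CfsgLib.Pres.SUn.SOn_univ]
  rcases Nat.eq_or_lt_of_le hm with h | h
  · exact anypair _ (by simp [← h])
  · refine (CfsgLib.Pres.SUn.gen_three hF (by simp; omega)).trans ((Subgroup.closure_le _).2 ?_)
    rintro g ⟨R, -, hR, hg⟩
    refine (CfsgLib.Pres.SUn.gen_pairs hF hq3 hR).trans ((Subgroup.closure_le _).2 ?_) hg
    rintro g' ⟨R', -, hR', hg'⟩
    exact anypair R' hR' hg'

/-- Homomorphisms agreeing on the consecutive two-coordinate blocks are equal. -/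
theorem hom_ext_pairs (hq3 : 3 ≤ q) (hm : 2 ≤ m) {G : Type*} [Group G]
    (f g : Cfsg.SU m F q →* G)
    (h : ∀ (i : ℕ) (hi : i + 2 ≤ m) (x : Cfsg.SU 2 F q), f (emb i hi x) = g (emb i hi x)) : f = g := by
  ext x
  have := gen_top hF hq3 hm (MonoidHom.eqLocus f g) h
  exact (this.ge (Subgroup.mem_top x) : _)

end CfsgLib.Recog.Phan
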