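import Cfsg.Agent.Lib.Recog.Phan.Geom
import Cfsg.Agent.Lib.Recog.Phan.Gen

/-!
# The inductive step: the covering of the orthogonality graph is trivial
-/

set_option autoImplicit false

namespace CfsgLib.Recog.Phan

open CfsgLib.Pres.SUn (SOn act act_mul act_one act_smul act_herm act_inv_act act_act_inv act_inj)
open CfsgLib.MaxSub (qConj qConj_apply qConj_qConj)

/-- A Phan amalgam of dimension `j + 4` whose first `j + 3` coordinates are already glued. -/
structure Ctx (j : ℕ) (G : Type*) [Group G] (F : Type*) [Field F] [Fintype F] (q : ℕ) where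
  hF : Fintype.card F = q ^ 2
  hq : 3 < q
  S : Sys (j + 4) G F q
  h0 : Cfsg.SU (j + 3) F q →* G
  hh0 : ∀ (i : ℕ) (h : i + 2 ≤ j + 3) (x : Cfsg.SU 2 F q),
    h0 (emb i h x) = S.pair i (by omega) x

namespace Ctx

variable {j : ℕ} {G : Type*} [Group G] {F : Type*} [Field F] [Fintype F] {q : ℕ} (C : Ctx j G F q)

local notation "M" => Cfsg.SU (j + 4) F q × G
local notation "⟪" u ", " v "⟫" => Cfsg.hermForm _ F q u v

/-- The base point. -/
noncomputable def e0 (_C : Ctx j G F q) : Fin (j + 4) → F := ev (j + 4) F (j + 3) (by omega)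

/-- Its standard neighbour. -/
noncomputable def e1 (_C : Ctx j G F q) : Fin (j + 4) → F := ev (j + 4) F (j + 2) (by omega)

/-- The third point of the standard triangle. -/
noncomputable def e2 (_C : Ctx j G F q) : Fin (j + 4) → F := ev (j + 4) F (j + 1) (by omega)

/-- Graph of a three-coordinate block. -/
noncomputable def gp (i : ℕ) (h : i + 3 ≤ j + 4) : Cfsg.SU 3 F q →* M :=
  (emb i h).prod (C.S.phi i h)

/-- Graph of a two-coordinate block. -/
noncomputable def g2 (i : ℕ) (h : i + 2 ≤ j + 4) : Cfsg.SU 2 F q →* M :=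
  (emb i h).prod (C.S.pair i h)

/-- Graph of the glued part. -/
noncomputable def g0 : Cfsg.SU (j + 3) F q →* M :=
  (emb 0 (by omega)).prod C.h0

/-- The last three-coordinate block. -/
noncomputable abbrev blkT : Cfsg.SU 3 F q →* M := C.gp (j + 1) (by omega)

theorem g0_pair (i : ℕ) (h : i + 2 ≤ j + 3) (x : Cfsg.SU 2 F q) :
    C.g0 (emb i h x) = C.g2 i (by omega) x := by
  refine Prod.ext ?_ (C.hh0 i h x)
  show emb 0 _ (emb i h x) = emb i _ x
  rw [emb_emb]
  exact emb_congr (Nat.zero_add i) _ x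

theorem gp_left (i : ℕ) (h : i + 3 ≤ j + 4) (x : Cfsg.SU 2 F q) :
    C.gp i h (left2 x) = C.g2 i (by omega) x :=
  Prod.ext ((emb_emb i 0 h (by omega) x).trans (emb_congr (Nat.add_zero i) _ x)) (C.S.phi_left i h x)

theorem gp_right (i : ℕ) (h : i + 3 ≤ j + 4) (x : Cfsg.SU 2 F q) :
    C.gp i h (right2 x) = C.g2 (i + 1) (by omega) x :=
  Prod.ext (emb_emb i 1 h (by omega) x) (C.S.phi_right i h x)

theorem g0_gp (i : ℕ) (h : i + 3 ≤ j + 3) (x : Cfsg.SU 3 F q) :
    C.g0 (emb i h x) = C.gp i (by omega) x := by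
  have key : C.g0.comp (emb i h) = C.gp i (by omega) := by
    refine hom_ext_pairs C.hF (by have := C.hq; omega) (by omega) _ _ fun a ha y => ?_
    rcases (by omega : a = 0 ∨ a = 1) with rfl | rfl
    · rw [MonoidHom.comp_apply, emb_emb, C.gp_left]
      exact (congrArg C.g0 (emb_congr (Nat.add_zero i) _ y)).trans (C.g0_pair i (by omega) y)
    · rw [MonoidHom.comp_apply, emb_emb, C.gp_right]
      exact C.g0_pair (i + 1) (by omega) y
  exact DFunLike.congr_fun key x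

/-- Scalars. -/
theorem act_neg (g : Cfsg.SU (j + 4) F q) (v : Fin (j + 4) → F) : act g (-v) = -act g v := by
  rw [← neg_one_smul F v, act_smul, neg_one_smul]

theorem ev_unit (hF : Fintype.card F = q ^ 2) {n : ℕ} (i : ℕ) (h : i < n) :
    ⟪ev n F i h, ev n F i h⟫ = 1 :=
  CfsgLib.Pres.SUn.herm_unit hF _

theorem ev_right (hF : Fintype.card F = q ^ 2) {n : ℕ} (u : Fin n → F) (i : ℕ) (h : i < n) :
    ⟪u, ev n F i h⟫ = u ⟨i, h⟩ :=
  CfsgLib.Pres.SUn.herm_single_right (CfsgLib.Pres.SUn.q_ne_zero hF) u _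

theorem ev_orth (hF : Fintype.card F = q ^ 2) {n : ℕ} {a b : ℕ} (ha : a < n) (hb : b < n)
    (h : a ≠ b) : ⟪ev n F a ha, ev n F b hb⟫ = 0 := by
  rw [ev_right hF, ev, Pi.single_eq_of_ne]
  exact fun e => h (congrArg Fin.val e).symm

/-- An element fixing the basis vectors outside an interval lies in its block. -/
theorem mem_range_emb (hF : Fintype.card F = q ^ 2) {k n : ℕ} (i : ℕ) (h : i + k ≤ n)
    (g : Cfsg.SU n F q)
    (hg : ∀ (c : ℕ) (hc : c < n), (c < i ∨ i + k ≤ c) → act g (ev n F c hc) = ev n F c hc) :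
    ∃ x, emb i h x = g := by
  have hmem : g ∈ (CfsgLib.Pres.SUn.blk (F := F) (q := q) (iv i h)).range := by
    rw [CfsgLib.Pres.SUn.range_blk (CfsgLib.Pres.SUn.q_ne_zero hF)]
    intro b hb
    refine hg b b.2 ?_
    by_contra hc
    exact hb (Finset.mem_map.2 ⟨⟨(b : ℕ) - i, by omega⟩, Finset.mem_univ _, Fin.ext (by simp; omega)⟩)
  exact hmem

/-- Blocks on disjoint intervals commute. -/
theorem emb_commute (hF : Fintype.card F = q ^ 2) {k l n : ℕ} (i i' : ℕ) (h : i + k ≤ n)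
    (h' : i' + l ≤ n) (hd : i + k ≤ i') (a : Cfsg.SU k F q) (b : Cfsg.SU l F q) :
    emb i h a * emb i' h' b = emb i' h' b * emb i h a := by
  have hq := CfsgLib.Pres.SUn.q_ne_zero hF
  have hA : emb i h a ∈ SOn (Finset.univ.map (iv i h)) :=
    by rw [← CfsgLib.Pres.SUn.range_blk hq]; exact ⟨a, rfl⟩
  have hB : emb i' h' b ∈ SOn (Finset.univ.map (iv i' h')) :=
    by rw [← CfsgLib.Pres.SUn.range_blk hq]; exact ⟨b, rfl⟩
  have hdis : ∀ c : Fin n, c ∈ Finset.univ.map (iv i h) → c ∉ Finset.univ.map (iv i' h') := fun c hc hc' => by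
    obtain ⟨x, -, rfl⟩ := Finset.mem_map.1 hc
    obtain ⟨y, -, hy⟩ := Finset.mem_map.1 hc'
    have := congrArg Fin.val hy
    simp only [iv_val] at this
    have := x.2
    omega
  refine CfsgLib.Pres.SUn.eq_of_act fun u => ?_
  set A := emb i h a
  set B := emb i' h' b
  have hd1 : ∀ c, c ∈ Finset.univ.map (iv i' h') → (act A u - u) c = 0 := fun c hc => by
    rw [Pi.sub_apply, CfsgLib.Pres.SUn.act_apply_out hq hA u (fun hcA => hdis c hcA hc), sub_self]
  have hd2 : ∀ c, c ∈ Finset.univ.map (iv i h) → (act B u - u) c = 0 := fun c hc => by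
    rw [Pi.sub_apply, CfsgLib.Pres.SUn.act_apply_out hq hB u (hdis c hc), sub_self]
  rw [act_mul, act_mul]
  calc act A (act B u) = act A (u + (act B u - u)) := by rw [add_sub_cancel]
    _ = act A u + (act B u - u) := by
      rw [CfsgLib.Pres.SUn.act_add, CfsgLib.Pres.SUn.act_eq_self hq hA hd2]
    _ = act B u + (act A u - u) := by abel
    _ = act B (u + (act A u - u)) := by
      rw [CfsgLib.Pres.SUn.act_add, CfsgLib.Pres.SUn.act_eq_self hq hB hd1]
    _ = act B (act A u) := by rw [add_sub_cancel]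

theorem g2_commute (i k : ℕ) (h : i + 2 ≤ j + 4) (h' : k + 2 ≤ j + 4) (hd : i + 2 ≤ k)
    (a b : Cfsg.SU 2 F q) : Commute (C.g2 i h a) (C.g2 k h' b) :=
  Prod.ext (emb_commute C.hF i k h h' hd a b) (C.S.comm i k h h' hd a b).eq

/-- The stabiliser of the second basis line of `SU 2`. -/
def torus2 (F : Type*) [Field F] (q : ℕ) : Subgroup (Cfsg.SU 2 F q) where
  carrier := {x | ∃ c : F, c ≠ 0 ∧ act x (Pi.single 1 1) = c • Pi.single 1 1}
  mul_mem' := by
    rintro a b ⟨c, hc, ha⟩ ⟨d, hd, hb⟩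
    exact ⟨d * c, mul_ne_zero hd hc, by rw [act_mul, hb, act_smul, ha, smul_smul]⟩
  one_mem' := ⟨1, one_ne_zero, by rw [act_one, one_smul]⟩
  inv_mem' := by
    rintro a ⟨c, hc, ha⟩
    refine ⟨c⁻¹, inv_ne_zero hc, act_inj a ?_⟩
    rw [act_act_inv, act_smul, ha, smul_smul, inv_mul_cancel₀ hc, one_smul]

/-- Local condition for lying in the glued part. -/
theorem blk_fix (x : Cfsg.SU 3 F q) (hx : act x (ev 3 F 2 (by omega)) = ev 3 F 2 (by omega)) :
    C.blkT x ∈ C.g0.range := by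
  obtain ⟨y, hy⟩ := mem_range_emb C.hF 0 (by omega : 0 + 2 ≤ 3) x fun c hc h => by
    obtain rfl : c = 2 := by omega
    exact hx
  refine ⟨emb (j + 1) (by omega) y, ?_⟩
  rw [← hy, C.g0_pair]
  exact (C.gp_left _ _ y).symm

theorem right_torus {x : Cfsg.SU 2 F q} (hx : x ∈ torus2 F q) :
    ∃ c : F, c ≠ 0 ∧ act (right2 x) (ev 3 F 2 (by omega)) = c • ev 3 F 2 (by omega) := by
  obtain ⟨c, hc, hx⟩ := hx
  refine ⟨c, hc, (act_emb_two 1 (by omega) x 1 (by simp)).trans ?_⟩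
  rw [hx]
  simp

theorem torus_normalise {t a : M} (ht : t ∈ (torus2 F q).map (C.g2 (j + 2) (by omega)))
    (ha : a ∈ C.g0.range) : t * a * t⁻¹ ∈ C.g0.range := by
  obtain ⟨x, hx, rfl⟩ := ht
  obtain ⟨y, rfl⟩ := ha
  set f : Cfsg.SU (j + 3) F q →* M :=
    (MulAut.conj (C.g2 (j + 2) (by omega) x)).toMonoidHom.comp C.g0 with hf
  have htop := gen_top C.hF (by have := C.hq; omega) (by omega) (C.g0.range.comap f) fun i h z => by
    show C.g2 (j + 2) _ x * C.g0 (emb i h z) * (C.g2 (j + 2) _ x)⁻¹ ∈ C.g0.range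
    rw [C.g0_pair]
    rcases Nat.lt_or_ge i (j + 1) with hi | hi
    · have hc : Commute (C.g2 i (by omega) z) (C.g2 (j + 2) (by omega) x) :=
        C.g2_commute i (j + 2) _ _ (by omega) z x
      rw [← hc.eq, mul_inv_cancel_right]
      exact ⟨emb i h z, C.g0_pair i h z⟩
    · obtain rfl : i = j + 1 := by omega
      obtain ⟨c, hc0, hc⟩ := right_torus hx
      rw [← C.gp_left (j + 1) (by omega), ← C.gp_right (j + 1) (by omega), ← map_mul, ← map_inv,
        ← map_mul]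
      refine C.blk_fix _ ?_
      have hinv : act (right2 x)⁻¹ (ev 3 F 2 (by omega)) = c⁻¹ • ev 3 F 2 (by omega) := act_inj (right2 x) (by
        rw [act_act_inv, act_smul, hc, smul_smul, inv_mul_cancel₀ hc0, one_smul])
      rw [act_mul, act_mul, hinv, act_smul, act_emb_off C.hF 0 (by omega) z (by omega) (Or.inr le_rfl),
        act_smul, hc, smul_smul, inv_mul_cancel₀ hc0, one_smul]
  exact (htop.ge (Subgroup.mem_top y) : f y ∈ C.g0.range)

/-- The lift of the stabiliser of the base line. -/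
noncomputable def H : Subgroup M where
  carrier := {k | ∃ a ∈ C.g0.range, ∃ t ∈ (torus2 F q).map (C.g2 (j + 2) (by omega)), k = a * t}
  mul_mem' := by
    rintro _ _ ⟨a, ha, t, ht, rfl⟩ ⟨b, hb, s, hs, rfl⟩
    exact ⟨a * (t * b * t⁻¹), mul_mem ha (C.torus_normalise ht hb), t * s, mul_mem ht hs, by group⟩
  one_mem' := ⟨1, one_mem _, 1, one_mem _, (one_mul 1).symm⟩
  inv_mem' := by
    rintro _ ⟨a, ha, t, ht, rfl⟩
    refine ⟨t⁻¹ * a⁻¹ * (t⁻¹)⁻¹, C.torus_normalise (inv_mem ht) (inv_mem ha), t⁻¹, inv_mem ht, ?_⟩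
    group

theorem g0_mem_H {a : M} (ha : a ∈ C.g0.range) : a ∈ C.H := ⟨a, ha, 1, one_mem _, (mul_one a).symm⟩

theorem act_g0 (y : Cfsg.SU (j + 3) F q) : act (C.g0 y).1 C.e0 = C.e0 :=
  act_emb_off C.hF 0 (by omega) y _ (Or.inr (by omega))

theorem act_last (x : Cfsg.SU 2 F q) :
    act (C.g2 (j + 2) (by omega) x).1 C.e0 =
      act x (Pi.single 1 1) 0 • C.e1 + act x (Pi.single 1 1) 1 • C.e0 :=
  act_emb_two (j + 2) (by omega) x 1 (by simp)

theorem H_line {k : M} (hk : k ∈ C.H) : Same C.e0 (act k.1 C.e0) := by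
  obtain ⟨a, ⟨y, rfl⟩, t, ⟨x, ⟨c, hc, hx⟩, rfl⟩, rfl⟩ := hk
  refine ⟨c, hc, ?_⟩
  rw [Prod.fst_mul, act_mul, C.act_last, hx]
  simp [act_smul, C.act_g0]

theorem norm_of_eig {n : ℕ} (hF : Fintype.card F = q ^ 2) {g : Cfsg.SU n F q} {v : Fin n → F}
    (hv : ⟪v, v⟫ = 1) {c : F} (h : act g v = c • v) : c * c ^ q = 1 := by
  have := act_herm g v v
  rw [h, herm_smull hF, herm_smulr hF, hv, mul_one, qConj_apply] at this
  exact this

theorem e0_unit : ⟪C.e0, C.e0⟫ = 1 := ev_unit C.hF _ _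

theorem e1_unit : ⟪C.e1, C.e1⟫ = 1 := ev_unit C.hF _ _

theorem exists_hat (g : Cfsg.SU (j + 4) F q) {c : F} (hg : act g C.e0 = c • C.e0) :
    ∃ k ∈ C.H, k.1 = g := by
  have hc : c * c ^ q = 1 := norm_of_eig C.hF C.e0_unit hg
  have hc0 : c ≠ 0 := fun h => by simp [h] at hc
  set t := C.g2 (j + 2) (by omega) (tor C.hF c hc) with ht
  have ht0 : act t.1 C.e0 = c • C.e0 := emb_tor_right C.hF (j + 2) (by omega) c hc
  obtain ⟨y, hy⟩ := mem_range_emb C.hF 0 (by omega : 0 + (j + 3) ≤ j + 4) (g * t.1⁻¹) fun i hi h => by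
    obtain rfl : i = j + 3 := by omega
    refine (act_mul _ _ _).trans ?_
    have : act t.1⁻¹ C.e0 = c⁻¹ • C.e0 := act_inj t.1 (by
      rw [act_act_inv, act_smul, ht0, smul_smul, inv_mul_cancel₀ hc0, one_smul])
    show act g (act t.1⁻¹ C.e0) = C.e0
    rw [this, act_smul, hg, smul_smul, inv_mul_cancel₀ hc0, one_smul]
  refine ⟨C.g0 y * t, ⟨_, ⟨y, rfl⟩, t, ⟨_, ⟨c, hc0, ?_⟩, rfl⟩, rfl⟩, ?_⟩
  · exact act_tor_one C.hF c hc
  · show emb 0 _ y * t.1 = g
    rw [hy, inv_mul_cancel_right]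

theorem H_inj {k : M} (hk : k ∈ C.H) (h1 : k.1 = 1) : k = 1 := by
  obtain ⟨a, ⟨y, rfl⟩, t, ⟨x, -, rfl⟩, rfl⟩ := hk
  have hfix : act (C.g2 (j + 2) (by omega) x).1 C.e0 = C.e0 := by
    have := congrArg (fun g => act g C.e0) h1
    simp only [Prod.fst_mul, act_mul, act_one] at this
    exact act_inj (C.g0 y).1 (this.trans (C.act_g0 y).symm)
  have hx1 : act x (Pi.single 1 1) = Pi.single 1 1 := by
    rw [C.act_last] at hfix
    funext b
    fin_cases b
    · have := congrFun hfix ⟨j + 2, by omega⟩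
      simpa [e0, e1, ev, Pi.single_apply, Fin.ext_iff] using this
    · have := congrFun hfix ⟨j + 3, by omega⟩
      simpa [e0, e1, ev, Pi.single_apply, Fin.ext_iff] using this
  have hx : x = 1 := by
    refine Subtype.ext (Subtype.ext ?_)
    set A : Matrix (Fin 2) (Fin 2) F := ((x : Matrix.SpecialLinearGroup (Fin 2) F) : Matrix (Fin 2) (Fin 2) F)
    have hA : A.det = 1 := (x : Matrix.SpecialLinearGroup (Fin 2) F).2
    have c0 : A 0 1 = 0 := by simpa [act, A] using congrFun hx1 0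
    have c1 : A 1 1 = 1 := by simpa [act, A] using congrFun hx1 1
    have r0 : A 1 0 = 0 := by
      have := act_herm x (Pi.single 0 1) (Pi.single 1 1)
      rw [hx1, CfsgLib.Pres.SUn.herm_single_right (CfsgLib.Pres.SUn.q_ne_zero C.hF),
        CfsgLib.Pres.SUn.herm_single_right (CfsgLib.Pres.SUn.q_ne_zero C.hF)] at this
      simpa [act, A] using this
    rw [Matrix.det_fin_two, c0, c1, zero_mul, sub_zero, mul_one] at hA
    ext a b
    fin_cases a <;> fin_cases b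
    exacts [hA, c0, r0, c1]
  subst hx
  rw [map_one, mul_one] at h1 ⊢
  have : y = 1 := CfsgLib.Pres.SUn.blk_injective _ (h1.trans (map_one _).symm)
  rw [this, map_one]

theorem H_eq {k k' : M} (hk : k ∈ C.H) (hk' : k' ∈ C.H) (h : k.1 = k'.1) : k = k' := by
  have := C.H_inj (mul_mem (inv_mem hk) hk') (by rw [Prod.fst_mul, Prod.fst_inv, h, inv_mul_cancel])
  exact inv_mul_eq_one.1 this

theorem blk_line (x : Cfsg.SU 3 F q) {c : F}
    (hx : act x (ev 3 F 2 (by omega)) = c • ev 3 F 2 (by omega)) : C.blkT x ∈ C.H := by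
  have hc : c * c ^ q = 1 := norm_of_eig C.hF (ev_unit C.hF _ _) hx
  have hc0 : c ≠ 0 := fun h => by simp [h] at hc
  set r : Cfsg.SU 3 F q := right2 (tor C.hF c hc)
  have hr : act r (ev 3 F 2 (by omega)) = c • ev 3 F 2 (by omega) := emb_tor_right C.hF 1 (by omega) c hc
  have h1 : C.blkT (x * r⁻¹) ∈ C.g0.range := C.blk_fix _ (by
    rw [act_mul, show act r⁻¹ (ev 3 F 2 (by omega)) = c⁻¹ • ev 3 F 2 (by omega) from act_inj r (by
      rw [act_act_inv, act_smul, hr, smul_smul, inv_mul_cancel₀ hc0, one_smul]), act_smul, hx,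
      smul_smul, inv_mul_cancel₀ hc0, one_smul])
  refine ⟨_, h1, C.blkT r, ⟨tor C.hF c hc, ⟨c, hc0, act_tor_one C.hF c hc⟩, ?_⟩, ?_⟩
  · exact (C.gp_right (j + 1) (by omega) _).symm
  · rw [← map_mul, inv_mul_cancel_right]

/-- The lifted monomial element moving the base point to its standard neighbour. -/
noncomputable def w : M := C.blkT (right2 (rot C.hF))

/-- The lifted monomial element of the standard triangle fixing the base point. -/
noncomputable def v : M := C.blkT (left2 (rot C.hF))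

theorem w_eq : C.w = C.g2 (j + 2) (by omega) (rot C.hF) := C.gp_right (j + 1) (by omega) _

theorem r_e2 : act (right2 (rot C.hF)) (ev 3 F 2 (by omega)) = -ev 3 F 1 (by omega) :=
  emb_rot_right C.hF 1 (by omega)

theorem l_e1 : act (left2 (rot C.hF)) (ev 3 F 1 (by omega)) = -ev 3 F 0 (by omega) :=
  emb_rot_right C.hF 0 (by omega)

theorem l_e2 : act (left2 (rot C.hF)) (ev 3 F 2 (by omega)) = ev 3 F 2 (by omega) :=
  act_emb_off C.hF 0 (by omega) _ (by omega) (Or.inr le_rfl)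

theorem neg3 (g : Cfsg.SU 3 F q) (u : Fin 3 → F) : act g (-u) = -act g u := by
  rw [← neg_one_smul F u, act_smul, neg_one_smul]

theorem lr_e2 : act (left2 (rot C.hF) * right2 (rot C.hF)) (ev 3 F 2 (by omega)) =
    ev 3 F 0 (by omega) := by
  rw [act_mul, C.r_e2, neg3, C.l_e1, neg_neg]

theorem v_mem : C.v ∈ C.H := C.g0_mem_H (C.blk_fix _ C.l_e2)

theorem w_sq : C.w * C.w ∈ C.H := by
  rw [w, ← map_mul]
  refine C.blk_line _ (c := -1) ?_
  rw [act_mul, C.r_e2, neg3, show act (right2 (rot C.hF)) (ev 3 F 1 (by omega)) = ev 3 F 2 (by omega)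
    from emb_rot_left C.hF 1 (by omega), neg_one_smul]

theorem act_w_e0 : act C.w.1 C.e0 = -C.e1 := by
  rw [w_eq]
  exact emb_rot_right C.hF (j + 2) (by omega)

theorem act_v_e1 : act C.v.1 C.e1 = -C.e2 := by
  rw [v, C.gp_left]
  exact emb_rot_right C.hF (j + 1) (by omega)

/-- The glued block of the first `j + 2` coordinates commutes with the last pair. -/
theorem g00_comm (x : Cfsg.SU (j + 2) F q) (y : Cfsg.SU 2 F q) :
    Commute (C.g0 (emb 0 (by omega) x)) (C.g2 (j + 2) (by omega) y) := by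
  have htop := gen_top C.hF (by have := C.hq; omega) (by omega)
    ((Subgroup.centralizer {C.g2 (j + 2) (by omega) y}).comap
      (C.g0.comp (emb 0 (by omega : 0 + (j + 2) ≤ j + 3)))) fun i h z => by
    rw [Subgroup.mem_comap, Subgroup.mem_centralizer_singleton_iff, MonoidHom.comp_apply, emb_emb,
      emb_congr (Nat.zero_add i), C.g0_pair]
    exact (C.g2_commute i (j + 2) _ _ (by omega) z y).eq
  have hx := htop.ge (Subgroup.mem_top x)
  exact Subgroup.mem_centralizer_singleton_iff.1 hx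

/-- Elements of the stabiliser fixing the standard neighbour are moved into it. -/
theorem edge {k : M} (hk : k ∈ C.H) {d : F} (hd : act k.1 C.e1 = d • C.e1) :
    C.w⁻¹ * k * C.w ∈ C.H := by
  obtain ⟨c, hc0, hc⟩ := C.H_line hk
  have hcn : c * c ^ q = 1 := norm_of_eig C.hF C.e0_unit hc.symm
  have hdn : d * d ^ q = 1 := norm_of_eig C.hF C.e1_unit hd
  have hun : d * c * (d * c) ^ q = 1 := by rw [mul_pow]; linear_combination (c * c ^ q) * hdn + hcn
  set z : Cfsg.SU 3 F q := right2 (tor C.hF c hcn) * left2 (tor C.hF (d * c) hun) with hz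
  have hz2 : act z (ev 3 F 2 (by omega)) = c • ev 3 F 2 (by omega) := by
    rw [hz, act_mul, act_emb_off C.hF 0 (by omega) _ (by omega) (Or.inr le_rfl)]
    exact emb_tor_right C.hF 1 (by omega) c hcn
  have hz1 : act z (ev 3 F 1 (by omega)) = d • ev 3 F 1 (by omega) := by
    rw [hz, act_mul, show act (left2 (tor C.hF (d * c) hun)) (ev 3 F 1 (by omega)) =
      (d * c) • ev 3 F 1 (by omega) from emb_tor_right C.hF 0 (by omega) _ hun, act_smul,
      show act (right2 (tor C.hF c hcn)) (ev 3 F 1 (by omega)) = c ^ q • ev 3 F 1 (by omega) from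
      emb_tor_left C.hF 1 (by omega) c hcn, smul_smul, mul_assoc, hcn, mul_one]
  have hy : C.blkT z ∈ C.H := C.blk_line z hz2
  have hy0 : act (C.blkT z).1 C.e0 = c • C.e0 := by
    have e : C.blkT z = C.g2 (j + 2) (by omega) (tor C.hF c hcn) *
        C.g2 (j + 1) (by omega) (tor C.hF (d * c) hun) := by
      rw [hz, map_mul, C.gp_left, C.gp_right]
    rw [e, Prod.fst_mul, act_mul,
      show act (C.g2 (j + 1) (by omega) (tor C.hF (d * c) hun)).1 C.e0 = C.e0 from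
        act_emb_off C.hF _ _ _ _ (Or.inr (by omega))]
    exact emb_tor_right C.hF (j + 2) (by omega) c hcn
  have hy1 : act (C.blkT z).1 C.e1 = d • C.e1 := by
    have e : C.blkT z = C.g2 (j + 2) (by omega) (tor C.hF c hcn) *
        C.g2 (j + 1) (by omega) (tor C.hF (d * c) hun) := by
      rw [hz, map_mul, C.gp_left, C.gp_right]
    rw [e, Prod.fst_mul, act_mul,
      show act (C.g2 (j + 1) (by omega) (tor C.hF (d * c) hun)).1 C.e1 = (d * c) • C.e1 from
        emb_tor_right C.hF (j + 1) (by omega) _ hun, act_smul,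
      show act (C.g2 (j + 2) (by omega) (tor C.hF c hcn)).1 C.e1 = c ^ q • C.e1 from
        emb_tor_left C.hF (j + 2) (by omega) c hcn, smul_smul, mul_assoc, hcn, mul_one]
  have hd0 : d ≠ 0 := fun h => by simp [h] at hdn
  obtain ⟨x, hx⟩ := mem_range_emb C.hF 0 (by omega : 0 + (j + 2) ≤ j + 4) (k * (C.blkT z)⁻¹).1
    fun i hi h => by
      rw [Prod.fst_mul, Prod.fst_inv, act_mul]
      rcases (by omega : i = j + 2 ∨ i = j + 3) with rfl | rfl
      · have : act (C.blkT z).1⁻¹ C.e1 = d⁻¹ • C.e1 := act_inj (C.blkT z).1 (by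
          rw [act_act_inv, act_smul, hy1, smul_smul, inv_mul_cancel₀ hd0, one_smul])
        show act k.1 (act (C.blkT z).1⁻¹ C.e1) = C.e1
        rw [this, act_smul, hd, smul_smul, inv_mul_cancel₀ hd0, one_smul]
      · have : act (C.blkT z).1⁻¹ C.e0 = c⁻¹ • C.e0 := act_inj (C.blkT z).1 (by
          rw [act_act_inv, act_smul, hy0, smul_smul, inv_mul_cancel₀ hc0, one_smul])
        show act k.1 (act (C.blkT z).1⁻¹ C.e0) = C.e0
        rw [this, act_smul, ← hc, smul_smul, inv_mul_cancel₀ hc0, one_smul]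
  have hk' : k * (C.blkT z)⁻¹ = C.g0 (emb 0 (by omega) x) := by
    refine C.H_eq (mul_mem hk (inv_mem hy)) (C.g0_mem_H ⟨_, rfl⟩) (hx.symm.trans ?_)
    exact (emb_emb 0 0 _ _ x).symm
  have hcomm := C.g00_comm x (rot C.hF)
  rw [← C.w_eq] at hcomm
  have hkz : k = C.g0 (emb 0 (by omega) x) * C.blkT z := by rw [← hk', inv_mul_cancel_right]
  rw [hkz, show C.w⁻¹ * (C.g0 (emb 0 (by omega) x) * C.blkT z) * C.w =
      (C.w⁻¹ * C.g0 (emb 0 (by omega) x) * C.w) * (C.w⁻¹ * C.blkT z * C.w) by group,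
    mul_assoc (C.w⁻¹) _ C.w, hcomm.eq, inv_mul_cancel_left]
  refine mul_mem (C.g0_mem_H ⟨_, rfl⟩) ?_
  rw [w, ← map_inv, ← map_mul, ← map_mul]
  refine C.blk_line _ (c := d) ?_
  rw [act_mul, act_mul, C.r_e2, neg3, hz1, ← neg_smul, act_smul]
  have : act (right2 (rot C.hF))⁻¹ (ev 3 F 1 (by omega)) = -ev 3 F 2 (by omega) :=
    act_inj (right2 (rot C.hF)) (by rw [act_act_inv, neg3, C.r_e2, neg_neg])
  rw [this, neg_smul, smul_neg, neg_neg]

/-! ### The covering graph -/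

/-- Equivalence of lifts. -/
def Eqv (k k' : M) : Prop := k⁻¹ * k' ∈ C.H

/-- Adjacency of lifts. -/
def Adj (k k' : M) : Prop := ∃ a ∈ C.H, ∃ b ∈ C.H, k' = k * a * C.w * b

/-- The point below a lift. -/
noncomputable def pt (k : M) : Fin (j + 4) → F := act k.1 C.e0

theorem pt_unit (k : M) : ⟪C.pt k, C.pt k⟫ = 1 := (act_herm _ _ _).trans C.e0_unit

theorem eqv_refl (k : M) : C.Eqv k k := by rw [Eqv, inv_mul_cancel]; exact one_mem _

theorem eqv_symm {k k' : M} (h : C.Eqv k k') : C.Eqv k' k := by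
  have := inv_mem h
  rwa [mul_inv_rev, inv_inv] at this

theorem eqv_mul {a : M} (ha : a ∈ C.H) (k : M) : C.Eqv k (k * a) := by
  rwa [Eqv, inv_mul_cancel_left]

theorem eqv_same {k k' : M} (h : C.Eqv k k') : Same (C.pt k) (C.pt k') := by
  obtain ⟨c, hc, e⟩ := C.H_line h
  refine ⟨c, hc, ?_⟩
  rw [pt, pt, ← act_smul, e, ← act_mul, ← Prod.fst_mul, mul_inv_cancel_left]

theorem adj_left {k k₁ k' : M} (h : C.Eqv k₁ k) (ha : C.Adj k k') : C.Adj k₁ k' := by
  obtain ⟨a, ha, b, hb, rfl⟩ := ha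
  exact ⟨k₁⁻¹ * k * a, mul_mem h ha, b, hb, by group⟩

theorem adj_right {k k' k₁ : M} (ha : C.Adj k k') (h : C.Eqv k' k₁) : C.Adj k k₁ := by
  obtain ⟨a, ha, b, hb, rfl⟩ := ha
  exact ⟨a, ha, b * ((k * a * C.w * b)⁻¹ * k₁), mul_mem hb h, by group⟩

theorem adj_symm {k k' : M} (h : C.Adj k k') : C.Adj k' k := by
  obtain ⟨a, ha, b, hb, rfl⟩ := h
  exact ⟨b⁻¹, inv_mem hb, (C.w * C.w)⁻¹ * a⁻¹, mul_mem (inv_mem C.w_sq) (inv_mem ha),
    by group⟩

theorem adj_orth {k k' : M} (h : C.Adj k k') : ⟪C.pt k, C.pt k'⟫ = 0 := by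
  obtain ⟨a, ha, b, hb, rfl⟩ := h
  obtain ⟨c, -, hc⟩ := C.H_line hb
  obtain ⟨d, hd0, hd⟩ := C.H_line ha
  have hk : C.pt k = d⁻¹ • act (k * a).1 C.e0 := by
    rw [pt, Prod.fst_mul, act_mul, ← hd, act_smul, smul_smul, inv_mul_cancel₀ hd0, one_smul]
  have hk' : C.pt (k * a * C.w * b) = act (k * a).1 (c • -C.e1) := by
    rw [pt, Prod.fst_mul, act_mul, ← hc, Prod.fst_mul, act_mul, act_smul, C.act_w_e0]
  rw [hk, hk', herm_smull C.hF, act_herm, herm_smulr C.hF, herm_negr C.hF]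
  simp [e0, e1, ev_orth C.hF]

theorem uniq {k k' k'' : M} (h1 : C.Adj k k') (h2 : C.Adj k k'')
    (hs : Same (C.pt k') (C.pt k'')) : C.Eqv k' k'' := by
  obtain ⟨a, ha, b, hb, rfl⟩ := h1
  obtain ⟨a', ha', b', hb', rfl⟩ := h2
  obtain ⟨c, -, hc⟩ := C.H_line hb
  obtain ⟨c', hc'0, hc'⟩ := C.H_line hb'
  obtain ⟨l, -, hl⟩ := hs
  simp only [pt, Prod.fst_mul, act_mul, ← hc, ← hc', act_smul, C.act_w_e0, act_neg, smul_neg,
    smul_smul, neg_inj] at hl
  have hl' : act (a'⁻¹ * a).1 C.e1 = (c' / (l * c)) • C.e1 := by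
    have h3 := congrArg (fun u => act a'.1⁻¹ (act k.1⁻¹ u)) hl
    simp only [act_smul, act_inv_act] at h3
    rw [Prod.fst_mul, Prod.fst_inv, act_mul]
    have hlc : l * c ≠ 0 := fun h0 => by
      have := congrFun h3 ⟨j + 2, by omega⟩
      simp [h0, e1, ev] at this
      exact hc'0 this.symm
    calc act a'.1⁻¹ (act a.1 C.e1) = (l * c)⁻¹ • ((l * c) • act a'.1⁻¹ (act a.1 C.e1)) := by
          rw [smul_smul, inv_mul_cancel₀ hlc, one_smul]
      _ = (c' / (l * c)) • C.e1 := by rw [h3, smul_smul, inv_mul_eq_div]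
  have h4 := C.edge (mul_mem (inv_mem ha') ha) hl'
  have h5 := mul_mem (mul_mem (inv_mem hb') h4) hb
  refine C.eqv_symm ?_
  rw [Eqv]
  convert h5 using 1
  group

theorem move_one {u : Fin (j + 4) → F} (hu : ⟪u, u⟫ = 1) (h0 : ⟪u, C.e0⟫ = 0) :
    ∃ a ∈ C.H, act a.1 C.e0 = C.e0 ∧ act a.1 C.e1 = u := by
  classical
  have h0' : u ⟨j + 3, by omega⟩ = 0 := (ev_right C.hF u _ _).symm.trans h0
  obtain ⟨g, hg, hgu⟩ := CfsgLib.Pres.SUn.on_unit C.hF
    (T := Finset.univ.map (iv 0 (by omega : 0 + (j + 3) ≤ j + 4))) (x := C.e1) (y := u) (by simp)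
    (fun i hi => by
      refine Pi.single_eq_of_ne (fun e => hi ?_) _
      subst e
      exact Finset.mem_map.2 ⟨⟨j + 2, by omega⟩, Finset.mem_univ _, Fin.ext (by simp)⟩)
    (fun i hi => by
      have : i = ⟨j + 3, by omega⟩ := by
        refine Fin.ext (show (i : ℕ) = j + 3 from ?_)
        by_contra hne
        exact hi (Finset.mem_map.2 ⟨⟨i, by omega⟩, Finset.mem_univ _, Fin.ext (by simp)⟩)
      rw [this, h0'])
    C.e1_unit hu
  rw [← CfsgLib.Pres.SUn.range_blk (CfsgLib.Pres.SUn.q_ne_zero C.hF)] at hg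
  obtain ⟨x, rfl⟩ := hg
  exact ⟨C.g0 x, C.g0_mem_H ⟨x, rfl⟩, C.act_g0 x, hgu⟩

theorem move_two {u : Fin (j + 4) → F} (hu : ⟪u, u⟫ = 1) (h0 : ⟪u, C.e0⟫ = 0)
    (h1 : ⟪u, C.e1⟫ = 0) :
    ∃ a ∈ C.H, act a.1 C.e0 = C.e0 ∧ act a.1 C.e1 = C.e1 ∧ act a.1 C.e2 = u ∧
      ∀ y, Commute a (C.g2 (j + 2) (by omega) y) := by
  classical
  have h0' : u ⟨j + 3, by omega⟩ = 0 := (ev_right C.hF u _ _).symm.trans h0
  have h1' : u ⟨j + 2, by omega⟩ = 0 := (ev_right C.hF u _ _).symm.trans h1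
  obtain ⟨g, hg, hgu⟩ := CfsgLib.Pres.SUn.on_unit C.hF
    (T := Finset.univ.map (iv 0 (by omega : 0 + (j + 2) ≤ j + 4))) (x := C.e2) (y := u) (by simp)
    (fun i hi => by
      refine Pi.single_eq_of_ne (fun e => hi ?_) _
      subst e
      exact Finset.mem_map.2 ⟨⟨j + 1, by omega⟩, Finset.mem_univ _, Fin.ext (by simp)⟩)
    (fun i hi => by
      have : i = ⟨j + 2, by omega⟩ ∨ i = ⟨j + 3, by omega⟩ := by
        by_contra hne
        simp only [not_or, Fin.ext_iff] at hne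
        exact hi (Finset.mem_map.2 ⟨⟨i, by omega⟩, Finset.mem_univ _, Fin.ext (by simp)⟩)
      rcases this with e | e <;> rw [e] <;> assumption)
    (ev_unit C.hF _ _) hu
  rw [← CfsgLib.Pres.SUn.range_blk (CfsgLib.Pres.SUn.q_ne_zero C.hF)] at hg
  obtain ⟨x, rfl⟩ := hg
  have hfst : (C.g0 (emb 0 (by omega : 0 + (j + 2) ≤ j + 3) x)).1 = emb 0 (by omega) x :=
    emb_emb 0 0 _ _ x
  refine ⟨C.g0 (emb 0 (by omega) x), C.g0_mem_H ⟨_, rfl⟩, C.act_g0 _, ?_, ?_, C.g00_comm x⟩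
  · rw [hfst]
    exact act_emb_off C.hF 0 (by omega) x (by omega) (Or.inr (by omega))
  · rw [hfst]
    exact hgu

theorem back_unit (k : M) {u : Fin (j + 4) → F} (hu : ⟪u, u⟫ = 1) :
    ⟪act k.1⁻¹ u, act k.1⁻¹ u⟫ = 1 := (act_herm _ _ _).trans hu

theorem back_orth (k : M) {u v : Fin (j + 4) → F} (h : ⟪u, act k.1 v⟫ = 0) :
    ⟪act k.1⁻¹ u, v⟫ = 0 := by
  rw [← act_herm k.1, act_act_inv, h]

theorem pt_mul_w (g : M) : C.pt (g * C.w) = -act g.1 C.e1 := by
  rw [pt, Prod.fst_mul, act_mul, C.act_w_e0, act_neg]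

theorem pt_mul_vw (g : M) : C.pt (g * C.v * C.w) = act g.1 C.e2 := by
  rw [C.pt_mul_w, Prod.fst_mul, act_mul, C.act_v_e1, act_neg, neg_neg]

theorem pt_mul_fix {g a : M} (h : act a.1 C.e0 = C.e0) : C.pt (g * a) = C.pt g := by
  rw [pt, pt, Prod.fst_mul, act_mul, h]

theorem adj_w (g : M) : C.Adj g (g * C.w) := ⟨1, one_mem _, 1, one_mem _, by group⟩

theorem adj_vw (g : M) : C.Adj g (g * C.v * C.w) := ⟨C.v, C.v_mem, 1, one_mem _, by group⟩

theorem lift (k : M) {u : Fin (j + 4) → F} (hu : ⟪u, u⟫ = 1) (h : ⟪C.pt k, u⟫ = 0) :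
    ∃ k', C.Adj k k' ∧ Same (C.pt k') u := by
  obtain ⟨a, ha, -, hau⟩ := C.move_one (back_unit k hu) (back_orth k (herm_orth_comm C.hF h))
  refine ⟨k * a * C.w, ⟨a, ha, 1, one_mem _, by group⟩, -1, neg_ne_zero.2 one_ne_zero, ?_⟩
  rw [C.pt_mul_w, Prod.fst_mul, act_mul, hau, act_act_inv, neg_smul, one_smul, neg_neg]

theorem tri {a b c : M} (hab : C.Adj a b) (hbc : C.Adj b c) (hac : ⟪C.pt a, C.pt c⟫ = 0) :
    C.Adj a c := by
  obtain ⟨x, hx, y, hy, rfl⟩ := hab
  have hga : C.Eqv a (a * x) := C.eqv_mul hx a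
  set g := a * x with hg
  have hgb : C.Eqv (g * C.w * y) (g * C.w) := C.eqv_symm (C.eqv_mul hy _)
  have hbc' : C.Adj (g * C.w) c := C.adj_left (C.eqv_symm hgb) hbc
  have h0 : ⟪C.pt c, act g.1 C.e0⟫ = 0 :=
    (C.eqv_same hga).orth_right C.hF (herm_orth_comm C.hF hac)
  have h1 : ⟪C.pt c, act g.1 C.e1⟫ = 0 := by
    have := C.adj_orth hbc'
    rw [C.pt_mul_w, herm_negl C.hF, neg_eq_zero] at this
    exact herm_orth_comm C.hF this
  obtain ⟨z, hz, hz0, hz1, hz2, hzc⟩ :=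
    C.move_two (back_unit g (C.pt_unit c)) (back_orth g h0) (back_orth g h1)
  have hpt : C.pt (g * z * C.v * C.w) = C.pt c := by
    rw [C.pt_mul_vw, Prod.fst_mul, act_mul, hz2, act_act_inv]
  have hA : C.Adj (g * z) (g * z * C.v * C.w) := C.adj_vw _
  have hB : C.Adj (g * z * C.w) (g * z * C.v * C.w) := by
    have hlr := C.lr_e2
    set l := left2 (rot C.hF)
    set r := right2 (rot C.hF)
    have hfix : C.blkT ((l * r)⁻¹ * (r⁻¹ * l * r)) ∈ C.g0.range := C.blk_fix _ (by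
      have hr0 : act r⁻¹ (ev 3 F 0 (by omega)) = ev 3 F 0 (by omega) := act_inj r (by
        rw [act_act_inv, act_emb_off C.hF 1 (by omega) _ (by omega) (Or.inl one_pos)])
      rw [act_mul, mul_assoc, act_mul r⁻¹, hlr, hr0]
      exact act_inj (l * r) (by rw [act_act_inv, hlr]))
    refine ⟨C.v, C.v_mem, _, C.g0_mem_H hfix, ?_⟩
    simp only [map_mul, map_inv]
    rw [show C.v = C.blkT l from rfl, show C.w = C.blkT r from rfl]
    group
  have hzw : C.Eqv (g * C.w) (g * z * C.w) := by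
    have e : g * z * C.w = g * C.w * z := by
      rw [mul_assoc g z, C.w_eq, (hzc _).eq, ← mul_assoc]
    rw [e]
    exact C.eqv_mul hz _
  have hcc : C.Eqv (g * z * C.v * C.w) c :=
    C.uniq (C.adj_left hzw hB) hbc' (Same.of_eq hpt)
  exact C.adj_left hga (C.adj_left (C.eqv_mul hz g) (C.adj_right hA hcc))

/-- Quadrangles with a non-degenerate diagonal close. -/
theorem quad_nondeg {a b c : M} (hab : C.Adj a b) (hbc : C.Adj b c)
    (hD : ⟪C.pt c, C.pt a⟫ * qConj C.hF ⟪C.pt c, C.pt a⟫ ≠ 1) {u : Fin (j + 4) → F}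
    (hu : ⟪u, u⟫ = 1) (hua : ⟪u, C.pt a⟫ = 0) (huc : ⟪u, C.pt c⟫ = 0) :
    ∃ d, C.Adj a d ∧ C.Adj d c ∧ Same (C.pt d) u := by
  set α := ⟪C.pt c, C.pt a⟫ with hα
  set p := C.pt c - α • C.pt a with hp
  have hca : ⟪C.pt a, C.pt c⟫ = qConj C.hF α := herm_flip C.hF _ _
  have hpa : ⟪p, C.pt a⟫ = 0 := by
    rw [hp, herm_subl C.hF, herm_smull C.hF, C.pt_unit, mul_one, sub_self]
  have hpp : ⟪p, p⟫ = 1 - α * qConj C.hF α := by
    calc ⟪p, p⟫ = Cfsg.hermForm (j + 4) F q p (C.pt c - α • C.pt a) := by rw [← hp]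
      _ = 1 - α * qConj C.hF α := by
        rw [herm_subr C.hF, herm_smulr C.hF, hpa, mul_zero, sub_zero, hp, herm_subl C.hF,
          herm_smull C.hF, C.pt_unit, hca]
  obtain ⟨l, hl0, hl, -⟩ := exists_scale C.hF (v := p) (by rw [hpp]; exact sub_ne_zero.2 (Ne.symm hD))
  have hab0 := C.adj_orth hab
  have hpb : ⟪p, C.pt b⟫ = 0 := by
    rw [hp, herm_subl C.hF, herm_smull C.hF, herm_orth_comm C.hF (C.adj_orth hbc), hab0]
    ring
  -- put the configuration in standard position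
  obtain ⟨x, hx, hx0, hx1⟩ := C.move_one (back_unit a hl)
    (back_orth a (by rw [herm_smull C.hF]; exact mul_eq_zero.2 (Or.inr hpa)))
  have hax1 : act (a * x).1 C.e1 = l • p := by rw [Prod.fst_mul, act_mul, hx1, act_act_inv]
  have hax0 : act (a * x).1 C.e0 = C.pt a := by rw [Prod.fst_mul, act_mul, hx0]; rfl
  obtain ⟨y, hy, hy0, hy1, hy2, hyc⟩ := C.move_two (back_unit (a * x) (C.pt_unit b))
    (back_orth (a * x) (by rw [hax0]; exact herm_orth_comm C.hF hab0))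
    (back_orth (a * x) (by
      rw [hax1, herm_smulr C.hF, herm_orth_comm C.hF hpb, mul_zero]))
  set g := a * x * y with hg
  have hga : C.Eqv a g := by
    rw [Eqv, hg, mul_assoc, inv_mul_cancel_left]
    exact mul_mem hx hy
  have hge0 : act g.1 C.e0 = C.pt a := by rw [hg, Prod.fst_mul, act_mul, hy0, hax0]
  have hge1 : act g.1 C.e1 = l • p := by rw [hg, Prod.fst_mul, act_mul, hy1, hax1]
  have hge2 : act g.1 C.e2 = C.pt b := by rw [hg, Prod.fst_mul, act_mul, hy2, act_act_inv]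
  have hb : C.Eqv (g * C.v * C.w) b :=
    C.uniq (C.adj_left hga (C.adj_vw g)) hab (Same.of_eq (by rw [C.pt_mul_vw, hge2]))
  -- the vertex `c`
  have hcexp : C.pt c = (l⁻¹) • act g.1 C.e1 + α • act g.1 C.e0 := by
    rw [hge1, hge0, smul_smul, inv_mul_cancel₀ hl0, one_smul, hp, sub_add_cancel]
  obtain ⟨z, hz⟩ : ∃ z : Cfsg.SU 2 F q, act z (Pi.single 1 1) = ![l⁻¹, α] := by
    refine CfsgLib.Pres.SUn.su_two C.hF (CfsgLib.Pres.SUn.herm_unit C.hF 1) ?_
    have h0 := C.pt_unit c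
    rw [hcexp, hge1, hge0] at h0
    simp only [herm_addl C.hF, herm_addr C.hF, herm_smull C.hF, herm_smulr C.hF, hpa,
      herm_orth_comm C.hF hpa, C.pt_unit, mul_zero, add_zero, zero_add] at h0
    simp only [Cfsg.hermForm, Fin.sum_univ_two, Matrix.cons_val_zero, Matrix.cons_val_one,
      ← qConj_apply C.hF]
    rw [map_inv₀]
    have hl' : l * qConj C.hF l * ⟪p, p⟫ = 1 := by
      rw [← hl, herm_smull C.hF, herm_smulr C.hF]; ring
    have hlq : qConj C.hF l ≠ 0 := (map_ne_zero _).2 hl0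
    simp only [map_inv₀] at h0
    linear_combination h0 - (l⁻¹ * (qConj C.hF l)⁻¹) * hl'
  set gc := C.g2 (j + 2) (by omega) z with hgc
  have hgcpt : C.pt (g * gc) = C.pt c := by
    rw [pt, Prod.fst_mul, act_mul, hgc, C.act_last, hz, hcexp, CfsgLib.Pres.SUn.act_add, act_smul,
      act_smul]
    rfl
  -- the last pair fixes the lifted vertex `b`
  have hfixb : C.Eqv (C.v * C.w) (gc * C.v * C.w) := by
    have hlr := C.lr_e2
    have e : gc = C.blkT (right2 z) := (C.gp_right (j + 1) (by omega) z).symm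
    refine C.g0_mem_H ?_
    rw [e, v, w]
    simp only [← map_mul, ← map_inv]
    refine C.blk_fix _ ?_
    rw [mul_assoc (right2 z), act_mul, act_mul, hlr,
      act_emb_off C.hF 1 (by omega) z (by omega) (Or.inl one_pos)]
    exact act_inj (left2 (rot C.hF) * right2 (rot C.hF)) (by rw [act_act_inv, hlr])
  have hfix' : ∀ k : M, C.Eqv (k * gc * C.v * C.w) (k * C.v * C.w) := fun k => by
    have := C.eqv_symm hfixb
    rw [Eqv] at this ⊢
    convert this using 1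
    group
  have hc : C.Eqv (g * gc) c := by
    refine C.uniq ?_ hbc (Same.of_eq hgcpt)
    exact C.adj_left (C.eqv_symm hb) (C.adj_left (C.eqv_symm (hfix' g))
      (C.adj_symm (C.adj_vw (g * gc))))
  -- the new vertex
  have hu0 : ⟪u, act g.1 C.e0⟫ = 0 := by rw [hge0]; exact hua
  have hu1 : ⟪u, act g.1 C.e1⟫ = 0 := by
    rw [hge1, herm_smulr C.hF, hp, herm_subr C.hF, herm_smulr C.hF, huc, hua]
    ring
  obtain ⟨s, hs, hs0, hs1, hs2, hsc⟩ :=
    C.move_two (back_unit g hu) (back_orth g hu0) (back_orth g hu1)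
  refine ⟨g * s * C.v * C.w, C.adj_left hga (C.adj_left (C.eqv_mul hs g) (C.adj_vw _)), ?_, ?_⟩
  · refine C.adj_symm ?_
    have h1 : C.Adj (g * s * gc) (g * s * gc * C.v * C.w) := C.adj_vw _
    have h2 : C.Eqv (g * gc) (g * s * gc) := by
      rw [mul_assoc g s, hgc, (hsc z).eq, ← mul_assoc]
      exact C.eqv_mul hs _
    have hc2 : C.Eqv c (g * s * gc) := by
      have h3 := C.eqv_symm hc
      rw [Eqv] at h3 h2 ⊢
      have := mul_mem h3 h2
      rwa [mul_assoc c⁻¹, mul_inv_cancel_left] at this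
    exact C.adj_left hc2 (C.adj_right h1 (hfix' (g * s)))
  · refine Same.of_eq ?_
    rw [C.pt_mul_vw, Prod.fst_mul, act_mul, hs2, act_act_inv]

/-- Every quadrangle closes. -/
theorem quad {a b c d : M} (hab : C.Adj a b) (hbc : C.Adj b c) (had : C.Adj a d)
    (hdc : ⟪C.pt d, C.pt c⟫ = 0) : C.Adj d c := by
  by_cases hs : Same (C.pt a) (C.pt c)
  · exact C.adj_right (C.adj_symm had) (C.uniq (C.adj_symm hab) hbc hs)
  by_cases hD : ⟪C.pt c, C.pt a⟫ * qConj C.hF ⟪C.pt c, C.pt a⟫ = 1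
  swap
  · obtain ⟨d', h1, h2, h3⟩ := C.quad_nondeg hab hbc hD (C.pt_unit d)
      (herm_orth_comm C.hF (C.adj_orth had)) hdc
    exact C.adj_left (C.uniq had h1 h3.symm) h2
  by_cases hs' : Same (C.pt b) (C.pt d)
  · exact C.adj_left (C.eqv_symm (C.uniq hab had hs')) hbc
  by_cases hD' : ⟪C.pt d, C.pt b⟫ * qConj C.hF ⟪C.pt d, C.pt b⟫ = 1
  swap
  · obtain ⟨c', h1, h2, h3⟩ := C.quad_nondeg (C.adj_symm hab) had hD' (C.pt_unit c)
      (herm_orth_comm C.hF (C.adj_orth hbc)) (herm_orth_comm C.hF hdc)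
    exact C.adj_right (C.adj_symm h2) (C.uniq h1 hbc h3)
  obtain ⟨x, y, e, hx, hy, he, hxa, hxb, hya, hyd, hex, hey, hec, hxc, hyc, hea⟩ :=
    exists_apex C.hF C.hq (C.pt_unit a) (C.pt_unit b) (C.pt_unit c)
      (herm_orth_comm C.hF (C.adj_orth hab)) (C.adj_orth hbc)
      (herm_orth_comm C.hF (C.adj_orth had)) hdc hD hD' hs
  have flipN : ∀ {u v : Fin (j + 4) → F}, ⟪u, v⟫ * qConj C.hF ⟪u, v⟫ ≠ 1 →
      ⟪v, u⟫ * qConj C.hF ⟪v, u⟫ ≠ 1 := fun {u v} h h' => h (by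
    rw [herm_flip C.hF u v, qConj_qConj, mul_comm]; exact h')
  obtain ⟨X, haX, hX⟩ := C.lift a hx (herm_orth_comm C.hF hxa)
  have hXb : C.Adj X b := C.tri (C.adj_symm haX) hab (hX.symm.orth C.hF hxb)
  have sN : ∀ {k : M} {u z : Fin (j + 4) → F}, Same (C.pt k) u → ⟪u, u⟫ = 1 →
      ⟪z, u⟫ * qConj C.hF ⟪z, u⟫ ≠ 1 → ⟪z, C.pt k⟫ * qConj C.hF ⟪z, C.pt k⟫ ≠ 1 := by
    intro k u z hk hu h h'
    obtain ⟨t, -, rfl⟩ := hk
    apply h
    have hn := Same.norm_one C.hF (C.pt_unit k) hu rfl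
    rw [herm_smulr C.hF, map_mul, qConj_qConj]
    linear_combination (t * qConj C.hF t) * h' + hn
  obtain ⟨E, hXE, hEc, hE⟩ := C.quad_nondeg hXb hbc (sN hX hx (flipN hxc)) he
    (hX.symm.orth_right C.hF hex) hec
  obtain ⟨Y, haY, hY⟩ := C.lift a hy (herm_orth_comm C.hF hya)
  have hYd : C.Adj Y d := C.tri (C.adj_symm haY) had (hY.symm.orth C.hF hyd)
  have hYE : C.Adj Y E := by
    obtain ⟨Y', h1, h2, h3⟩ := C.quad_nondeg haX hXE (by
        obtain ⟨t, -, ht⟩ := hE.symm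
        have hn := Same.norm_one C.hF he (C.pt_unit E) ht
        rw [← ht, herm_smull C.hF, map_mul]
        intro h
        apply hea
        linear_combination h - (⟪e, C.pt a⟫ * qConj C.hF ⟪e, C.pt a⟫) * hn) hy hya
      (hE.symm.orth_right C.hF (herm_orth_comm C.hF hey))
    exact C.adj_left (C.uniq haY h1 (hY.trans h3.symm)) h2
  obtain ⟨d', h1, h2, h3⟩ := C.quad_nondeg hYE hEc (sN hY hy (flipN hyc)) (C.pt_unit d)
    (hY.symm.orth_right C.hF (herm_orth_comm C.hF hyd)) hdc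
  exact C.adj_left (C.uniq hYd h1 h3.symm) h2

/-- Every pentagon closes. -/
theorem pentagon {a b c d e : M} (hab : C.Adj a b) (hbc : C.Adj b c) (hae : C.Adj a e)
    (hed : C.Adj e d) (hcd : ⟪C.pt c, C.pt d⟫ = 0) : C.Adj c d := by
  by_cases hec : ⟪C.pt e, C.pt c⟫ = 0
  · exact C.tri (C.adj_symm (C.quad hab hbc hae hec)) hed hcd
  by_cases hca : ⟪C.pt c, C.pt a⟫ = 0
  · have hca' : C.Adj a c := C.tri hab hbc (herm_orth_comm C.hF hca)
    exact C.quad (C.adj_symm hae) hca' hed (herm_orth_comm C.hF hcd) |> C.adj_symm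
  obtain ⟨b', hb', hba, hbc', hdet⟩ := exists_replace C.hF C.hq (by omega) (C.pt_unit a)
    (C.pt_unit b) (C.pt_unit c) (C.pt_unit e) (herm_orth_comm C.hF (C.adj_orth hab)) (C.adj_orth hbc)
    (herm_orth_comm C.hF (C.adj_orth hae)) hec hca
  obtain ⟨f, hf, hfe, hfb, hfc⟩ := exists_perp_three C.hF (by omega) (e := C.pt e) hb' (C.pt_unit c)
    hbc' (by rw [C.pt_unit]; exact hdet)
  obtain ⟨B, haB, hB⟩ := C.lift a hb' (herm_orth_comm C.hF hba)
  have hBc : C.Adj B c := C.quad hab hbc haB (hB.symm.orth C.hF hbc')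
  obtain ⟨E, heE, hE⟩ := C.lift e hf (herm_orth_comm C.hF hfe)
  have hEB : C.Adj E B := C.quad (C.adj_symm hae) haB heE
    (hE.symm.orth C.hF (hB.symm.orth_right C.hF hfb))
  have hEc : C.Adj E c := C.tri hEB hBc (hE.symm.orth C.hF hfc)
  exact C.adj_symm (C.quad heE hEc hed (herm_orth_comm C.hF hcd))

/-- Within distance two of the base vertex. -/
def Near (k : M) : Prop := C.Eqv 1 k ∨ C.Adj 1 k ∨ ∃ b, C.Adj 1 b ∧ C.Adj b k

theorem pt_one : C.pt (1 : M) = C.e0 := act_one _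

theorem near_eqv {k k' : M} (h : C.Near k) (he : C.Eqv k k') : C.Near k' := by
  rcases h with h | h | ⟨b, h1, h2⟩
  · left
    have := mul_mem h he
    rwa [inv_one, one_mul, mul_inv_cancel_left, ← one_mul k', ← inv_one] at this
  · exact Or.inr (Or.inl (C.adj_right h he))
  · exact Or.inr (Or.inr ⟨b, h1, C.adj_right h2 he⟩)

theorem near_step {k k' : M} (h : C.Near k) (ha : C.Adj k k') : C.Near k' := by
  rcases h with h | h | ⟨b, h1, h2⟩
  · exact Or.inr (Or.inl (C.adj_left h ha))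
  · exact Or.inr (Or.inr ⟨k, h, ha⟩)
  by_cases hs : Same (C.pt (1 : M)) (C.pt k')
  · have hk : C.Adj 1 k := C.tri h1 h2
      (hs.symm.orth C.hF (herm_orth_comm C.hF (C.adj_orth ha)))
    exact Or.inl (C.uniq (C.adj_symm hk) ha hs)
  by_cases ho : ⟪C.pt (1 : M), C.pt k'⟫ = 0
  · obtain ⟨K, hK, hKs⟩ := C.lift 1 (C.pt_unit k') ho
    have hKk : C.Adj K k := C.quad h1 h2 hK
      (hKs.symm.orth C.hF (herm_orth_comm C.hF (C.adj_orth ha)))
    exact Or.inr (Or.inl (C.adj_right hK (C.uniq (C.adj_symm hKk) ha hKs)))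
  obtain ⟨u, hu, hu1, hu2⟩ := exists_perp_two C.hF (by omega) (a := C.pt (1 : M)) (c := C.pt k')
    (C.pt_unit 1)
  obtain ⟨B, hB, hBs⟩ := C.lift 1 hu (herm_orth_comm C.hF hu1)
  obtain ⟨K, hBK, hKs⟩ := C.lift B (C.pt_unit k') (hBs.symm.orth C.hF hu2)
  have hkK : C.Adj k K := C.pentagon h1 h2 hB hBK
    (hKs.symm.orth_right C.hF (C.adj_orth ha))
  exact Or.inr (Or.inr ⟨B, hB, C.adj_right hBK (C.uniq hkK ha hKs)⟩)

theorem near_fibre {k : M} (h : C.Near k) (hs : Same (C.pt (1 : M)) (C.pt k)) : k ∈ C.H := by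
  have : C.Eqv 1 k := by
    rcases h with h | h | ⟨b, h1, h2⟩
    · exact h
    · exact absurd hs (not_same_of_orth C.hF (C.pt_unit _) (C.pt_unit _) (C.adj_orth h))
    · exact C.uniq (C.adj_symm h1) h2 hs
  simpa [Eqv] using this

/-- The group generated by the lifts. -/
noncomputable def K : Subgroup M := C.H ⊔ Subgroup.zpowers C.w

theorem near_K {k : M} (hk : k ∈ C.K) : C.Near k := by
  have hcl : C.K = Subgroup.closure ((C.H : Set M) ∪ {C.w}) := by
    rw [Subgroup.closure_union, Subgroup.closure_eq, ← Subgroup.zpowers_eq_closure, K]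
  rw [hcl] at hk
  induction hk using Subgroup.closure_induction_right with
  | one => exact Or.inl (C.eqv_refl 1)
  | mul_right x _ y hy ih =>
    rcases hy with hy | rfl
    · exact C.near_eqv ih (C.eqv_mul hy x)
    · exact C.near_step ih (C.adj_w x)
  | mul_inv_cancel x _ y hy ih =>
    rcases hy with hy | rfl
    · exact C.near_eqv ih (C.eqv_mul (inv_mem hy) x)
    · exact C.near_step ih ⟨1, one_mem _, (C.w * C.w)⁻¹, inv_mem C.w_sq, by group⟩

theorem K_inj {k : M} (hk : k ∈ C.K) (h : k.1 = 1) : k = 1 :=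
  C.H_inj (C.near_fibre (C.near_K hk) (Same.of_eq (by rw [C.pt_one, pt, h, act_one]))) h

theorem g2_mem_K (i : ℕ) (h : i + 2 ≤ j + 4) (x : Cfsg.SU 2 F q) : C.g2 i h x ∈ C.K := by
  have hH : C.H ≤ C.K := le_sup_left
  have hw : C.w ∈ C.K := Subgroup.mem_sup_right (Subgroup.mem_zpowers _)
  rcases Nat.lt_or_ge i (j + 2) with hi | hi
  · exact hH (C.g0_mem_H ⟨_, C.g0_pair i (by omega) x⟩)
  obtain rfl : i = j + 2 := by omega
  rw [← C.gp_right (j + 1) (by omega) x]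
  set t := left2 (rot C.hF) * right2 (rot C.hF) with ht
  have hfix : C.blkT (t⁻¹ * right2 x * t) ∈ C.g0.range := C.blk_fix _ (by
    rw [act_mul, act_mul, C.lr_e2,
      act_emb_off C.hF 1 (by omega) x (by omega) (Or.inl one_pos)]
    exact act_inj t (by rw [act_act_inv, ht, C.lr_e2]))
  have htK : C.blkT t ∈ C.K := by rw [ht, map_mul]; exact mul_mem (hH C.v_mem) hw
  have := mul_mem (mul_mem htK (hH (C.g0_mem_H hfix))) (inv_mem htK)
  rwa [← map_inv, ← map_mul, ← map_mul, show t * (t⁻¹ * right2 x * t) * t⁻¹ = right2 x by group] at this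

/-- The inductive step. -/
theorem exists_hom : ∃ f : Cfsg.SU (j + 4) F q →* G,
    ∀ (i : ℕ) (h : i + 2 ≤ j + 4) (x : Cfsg.SU 2 F q), f (emb i h x) = C.S.pair i h x := by
  let p : C.K →* Cfsg.SU (j + 4) F q := (MonoidHom.fst _ _).comp C.K.subtype
  have hinj : Function.Injective p := (injective_iff_map_eq_one p).2 fun k hk =>
    Subtype.ext (C.K_inj k.2 hk)
  have hsurj : Function.Surjective p := by
    have htop := gen_top C.hF (by have := C.hq; omega) (by omega) p.range fun i h x =>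
      ⟨⟨_, C.g2_mem_K i h x⟩, rfl⟩
    exact MonoidHom.range_eq_top.1 htop
  let e := MulEquiv.ofBijective p ⟨hinj, hsurj⟩
  refine ⟨(MonoidHom.snd _ _).comp (C.K.subtype.comp e.symm.toMonoidHom), fun i h x => ?_⟩
  have : e.symm (emb i h x) = ⟨_, C.g2_mem_K i h x⟩ := e.symm_apply_eq.2 rfl
  show ((e.symm (emb i h x) : C.K) : M).2 = _
  rw [this]
  rfl

end Ctx

end CfsgLib.Recog.Phan
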