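import Cfsg.Agent.Lib.Pres.SUTrans
import Cfsg.Prelude.Def_PhanSystems

/-!
# Amalgams of Phan type for the special unitary groups: the interface

A system `Sys m G F q` consists of compatible homomorphisms of the consecutive three-coordinate
blocks of `SU m F q` into `G`, the two-coordinate blocks on disjoint coordinates commuting.
-/

set_option autoImplicit false

namespace CfsgLib.Recog.Phan

open CfsgLib.Pres.SUn (blk)

/-- The coordinates `i, …, i + k - 1`. -/
def iv {k m : ℕ} (i : ℕ) (h : i + k ≤ m) : Fin k ↪ Fin m where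
  toFun a := ⟨i + a, by have := a.2; omega⟩
  inj' a b e := by
    have := congrArg Fin.val e
    exact Fin.ext (by simpa using this)

@[simp] theorem iv_val {k m : ℕ} (i : ℕ) (h : i + k ≤ m) (a : Fin k) :
    ((iv i h a : Fin m) : ℕ) = i + a := rfl

/-- The block of `SU m` on the coordinates `i, …, i + k - 1`. -/
noncomputable abbrev emb {k m : ℕ} {F : Type*} [Field F] {q : ℕ} (i : ℕ) (h : i + k ≤ m) :
    Cfsg.SU k F q →* Cfsg.SU m F q :=
  blk (iv i h)

/-- The left two-coordinate block of `SU 3`. -/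
noncomputable abbrev left2 {F : Type*} [Field F] {q : ℕ} : Cfsg.SU 2 F q →* Cfsg.SU 3 F q :=
  emb 0 (by omega)

/-- The right two-coordinate block of `SU 3`. -/
noncomputable abbrev right2 {F : Type*} [Field F] {q : ℕ} : Cfsg.SU 2 F q →* Cfsg.SU 3 F q :=
  emb 1 (by omega)

/-- A Phan amalgam in `G`. -/
structure Sys (m : ℕ) (G : Type*) [Group G] (F : Type*) [Field F] (q : ℕ) where
  phi : ∀ i : ℕ, i + 3 ≤ m → Cfsg.SU 3 F q →* G
  pair : ∀ i : ℕ, i + 2 ≤ m → Cfsg.SU 2 F q →* G
  phi_left : ∀ (i : ℕ) (h : i + 3 ≤ m) (x : Cfsg.SU 2 F q), phi i h (left2 x) = pair i (by omega) x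
  phi_right : ∀ (i : ℕ) (h : i + 3 ≤ m) (x : Cfsg.SU 2 F q),
    phi i h (right2 x) = pair (i + 1) (by omega) x
  comm : ∀ (i j : ℕ) (hi : i + 2 ≤ m) (hj : j + 2 ≤ m), i + 2 ≤ j →
    ∀ x y : Cfsg.SU 2 F q, Commute (pair i hi x) (pair j hj y)

end CfsgLib.Recog.Phan
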