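import Cfsg.Agent.Lib.Recog.Phan.Defs
import Cfsg.Agent.Lib.MaxSub.HermPerp

/-!
# Phan geometry: common orthogonal unit vectors

The three facts about the orthogonality graph of a non-degenerate Hermitian space of dimension at
least four (field of order `q²`, `q > 3`) used in recognising `SU_m(q)` from its Phan amalgam.
-/

set_option autoImplicit false

namespace CfsgLib.Recog.Phan

open CfsgLib.MaxSub (qConj qConj_apply qConj_qConj isUnitaryForm_hermForm)

variable {F : Type*} [Field F] {q m : ℕ}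

/-- Two vectors spanning the same line. -/
def Same (u v : Fin m → F) : Prop := ∃ c : F, c ≠ 0 ∧ c • u = v

theorem Same.refl (u : Fin m → F) : Same u u := ⟨1, one_ne_zero, one_smul _ _⟩

theorem Same.symm {u v : Fin m → F} (h : Same u v) : Same v u := by
  obtain ⟨c, hc, rfl⟩ := h
  exact ⟨c⁻¹, inv_ne_zero hc, by rw [smul_smul, inv_mul_cancel₀ hc, one_smul]⟩

theorem Same.trans {u v w : Fin m → F} (h : Same u v) (h' : Same v w) : Same u w := by
  obtain ⟨c, hc, rfl⟩ := h
  obtain ⟨d, hd, rfl⟩ := h'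
  exact ⟨d * c, mul_ne_zero hd hc, by rw [smul_smul]⟩

theorem Same.of_eq {u v : Fin m → F} (h : u = v) : Same u v := h ▸ Same.refl u

section
variable [Fintype F] (hF : Fintype.card F = q ^ 2)
include hF

local notation "⟪" u ", " v "⟫" => Cfsg.hermForm _ F q u v
local notation "σ" => qConj hF

theorem herm_flip (u v : Fin m → F) : ⟪u, v⟫ = σ ⟪v, u⟫ :=
  (isUnitaryForm_hermForm hF m).herm u v

theorem herm_addl (u v w : Fin m → F) : ⟪u + v, w⟫ = ⟪u, w⟫ + ⟪v, w⟫ :=
  (isUnitaryForm_hermForm hF m).add_left u v w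

theorem herm_smull (c : F) (u w : Fin m → F) : ⟪c • u, w⟫ = c * ⟪u, w⟫ :=
  (isUnitaryForm_hermForm hF m).smul_left c u w

theorem herm_addr (w u v : Fin m → F) : ⟪w, u + v⟫ = ⟪w, u⟫ + ⟪w, v⟫ :=
  MaxSub.herm_add_right (isUnitaryForm_hermForm hF m) w u v

theorem herm_smulr (c : F) (w u : Fin m → F) : ⟪w, c • u⟫ = σ c * ⟪w, u⟫ :=
  MaxSub.herm_smul_right (isUnitaryForm_hermForm hF m) c w u

theorem herm_negl (u w : Fin m → F) : ⟪-u, w⟫ = -⟪u, w⟫ := by
  rw [← neg_one_smul F u, herm_smull hF, neg_one_mul]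

theorem herm_subl (u v w : Fin m → F) : ⟪u - v, w⟫ = ⟪u, w⟫ - ⟪v, w⟫ := by
  rw [sub_eq_add_neg, herm_addl hF, herm_negl hF, sub_eq_add_neg]

theorem herm_negr (w u : Fin m → F) : ⟪w, -u⟫ = -⟪w, u⟫ := by
  rw [← neg_one_smul F u, herm_smulr hF, map_neg, map_one, neg_one_mul]

theorem herm_subr (w u v : Fin m → F) : ⟪w, u - v⟫ = ⟪w, u⟫ - ⟪w, v⟫ := by
  rw [sub_eq_add_neg, herm_addr hF, herm_negr hF, sub_eq_add_neg]

theorem herm_orth_comm {u v : Fin m → F} (h : ⟪u, v⟫ = 0) : ⟪v, u⟫ = 0 :=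
  MaxSub.herm_eq_zero_comm (isUnitaryForm_hermForm hF m) h

theorem norm_fixed (a : F) : σ (a * σ a) = a * σ a := by rw [map_mul, qConj_qConj, mul_comm]

theorem tr_fixed (a : F) : σ (a + σ a) = a + σ a := by rw [map_add, qConj_qConj, add_comm]

theorem unit_ne_zero {v : Fin m → F} (h : ⟪v, v⟫ = 1) : v ≠ 0 := by
  rintro rfl
  exact zero_ne_one (α := F) ((MaxSub.herm_zero_left (isUnitaryForm_hermForm hF m) _).symm.trans h)

/-- A non-isotropic vector can be scaled to norm one. -/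
theorem exists_scale {v : Fin m → F} (h : ⟪v, v⟫ ≠ 0) :
    ∃ l : F, l ≠ 0 ∧ ⟪l • v, l • v⟫ = 1 ∧ l * σ l * ⟪v, v⟫ = 1 := by
  obtain ⟨l, hl⟩ := MaxSub.exists_norm_eq (isUnitaryForm_hermForm hF m) (e := ⟪v, v⟫⁻¹)
    (by rw [map_inv₀, ← herm_flip hF])
  have h1 : l * σ l * ⟪v, v⟫ = 1 := by rw [hl, inv_mul_cancel₀ h]
  refine ⟨l, fun e => inv_ne_zero h (by rw [← hl, e, zero_mul]), ?_, h1⟩
  rw [herm_smull hF, herm_smulr hF]
  linear_combination h1

/-- Two unit vectors on one line differ by an element of norm one. -/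
theorem Same.norm_one {u v : Fin m → F} (hu : ⟪u, u⟫ = 1) (hv : ⟪v, v⟫ = 1) {c : F}
    (h : c • u = v) : c * σ c = 1 := by
  rw [← h, herm_smull hF, herm_smulr hF, hu, mul_one] at hv
  exact hv

theorem Same.orth {u v w : Fin m → F} (h : Same u v) (hw : ⟪u, w⟫ = 0) : ⟪v, w⟫ = 0 := by
  obtain ⟨c, -, rfl⟩ := h
  rw [herm_smull hF, hw, mul_zero]

theorem Same.orth_right {u v w : Fin m → F} (h : Same u v) (hw : ⟪w, u⟫ = 0) : ⟪w, v⟫ = 0 :=
  herm_orth_comm hF (h.orth hF (herm_orth_comm hF hw))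

theorem not_same_of_orth {u v : Fin m → F} (hu : ⟪u, u⟫ = 1) (hv : ⟪v, v⟫ = 1) (h : ⟪u, v⟫ = 0) :
    ¬ Same u v := fun hs => by
  have := hs.orth hF h
  rw [hv] at this
  exact one_ne_zero this

/-! ### Elementary facts about the field -/

theorem one_lt_q : 1 < q := by
  have := CfsgLib.Pres.SUn.two_le_q hF
  omega

open scoped _root_.Classical in
theorem card_pow_eq_le (K : F) : (Finset.univ.filter fun x : F => x ^ (q + 1) = K).card ≤ q + 1 := by
  classical
  rcases eq_or_ne K 0 with rfl | hK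
  · refine le_trans (Finset.card_le_card (t := {0}) fun x hx => ?_) (by simp)
    simpa using eq_zero_of_pow_eq_zero (Finset.mem_filter.1 hx).2
  refine le_trans ?_ (Polynomial.card_nthRoots (q + 1) K)
  refine le_trans (Finset.card_le_card (t := (Polynomial.nthRoots (q + 1) K).toFinset) fun x hx => ?_)
    (Multiset.toFinset_card_le _)
  rw [Multiset.mem_toFinset, Polynomial.mem_nthRoots (by omega)]
  exact (Finset.mem_filter.1 hx).2

open scoped _root_.Classical in
theorem card_tr_eq_le {C : F} (hC : C ≠ 0) (K : F) :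
    (Finset.univ.filter fun x : F => C * σ x + σ C * x = K).card ≤ q := by
  classical
  have hq := one_lt_q hF
  let P : Polynomial F :=
    Polynomial.C C * Polynomial.X ^ q + Polynomial.C (σ C) * Polynomial.X - Polynomial.C K
  have hc : P.coeff q = C := by
    have h1 : q ≠ 0 := by omega
    have h2 : 1 ≠ q := by omega
    simp [P, Polynomial.coeff_X, Polynomial.coeff_C, h1, h2]
  have hP0 : P ≠ 0 := fun h => hC (by rw [← hc, h, Polynomial.coeff_zero])
  refine le_trans (le_trans (Finset.card_le_card (t := P.roots.toFinset) fun x hx => ?_)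
    (Multiset.toFinset_card_le _)) ((Polynomial.card_roots' P).trans ?_)
  · rw [Multiset.mem_toFinset, Polynomial.mem_roots hP0]
    have := (Finset.mem_filter.1 hx).2
    rw [qConj_apply] at this
    simp only [P, Polynomial.IsRoot, Polynomial.eval_sub, Polynomial.eval_add, Polynomial.eval_mul,
      Polynomial.eval_C, Polynomial.eval_pow, Polynomial.eval_X]
    linear_combination this
  · refine Polynomial.natDegree_le_iff_coeff_eq_zero.2 fun N hN => ?_
    simp only [P, Polynomial.coeff_sub, Polynomial.coeff_add, Polynomial.coeff_C_mul,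
      Polynomial.coeff_X_pow, Polynomial.coeff_X, Polynomial.coeff_C]
    rw [if_neg (by omega), if_neg (by omega), if_neg (by omega)]
    ring

/-- A trace form `x ↦ C x̄ + C̄ x` is not constant off a norm circle. -/
theorem exists_tr_ne (hq3 : 3 < q) {C : F} (hC : C ≠ 0) (K K' : F) :
    ∃ x : F, x * σ x ≠ K' ∧ C * σ x + σ C * x ≠ K := by
  classical
  by_contra! hall
  have h1 : (Finset.univ : Finset F) ⊆ (Finset.univ.filter fun x : F => x ^ (q + 1) = K') ∪
      (Finset.univ.filter fun x : F => C * σ x + σ C * x = K) := fun x _ => by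
    rw [Finset.mem_union, Finset.mem_filter, Finset.mem_filter]
    by_cases h : x * σ x = K'
    · exact Or.inl ⟨Finset.mem_univ _, by rw [pow_succ', ← qConj_apply hF, h]⟩
    · exact Or.inr ⟨Finset.mem_univ _, hall x h⟩
  have h2 := (Finset.card_le_card h1).trans (Finset.card_union_le _ _)
  rw [Finset.card_univ, hF] at h2
  have h3 := card_pow_eq_le hF K'
  have h4 := card_tr_eq_le hF hC K
  nlinarith

/-- The trace is onto the fixed field. -/
theorem exists_tr {a : F} (ha : σ a = a) : ∃ z, z + σ z = a :=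
  MaxSub.exists_trace_eq (isUnitaryForm_hermForm hF 1) ha

open scoped _root_.Classical in
theorem card_fixed : q ≤ (Finset.univ.filter fun x : F => σ x = x).card := by
  classical
  have h1 : ((Finset.univ : Finset F).image fun x => x + σ x).card ≤
      (Finset.univ.filter fun x : F => σ x = x).card :=
    Finset.card_le_card fun y hy => by
      obtain ⟨x, -, rfl⟩ := Finset.mem_image.1 hy
      exact Finset.mem_filter.2 ⟨Finset.mem_univ _, tr_fixed hF x⟩
  refine le_trans ?_ h1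
  have h2 := Finset.card_le_mul_card_image (f := fun x : F => x + σ x) Finset.univ q fun y _ => by
    refine le_trans (Finset.card_le_card fun x hx => ?_) (card_tr_eq_le hF (one_ne_zero (α := F)) y)
    rw [Finset.mem_filter] at hx ⊢
    refine ⟨hx.1, ?_⟩
    rw [one_mul, map_one, one_mul, ← hx.2, add_comm]
  rw [Finset.card_univ, hF] at h2
  have hq := one_lt_q hF
  nlinarith

/-- The parameters of the apex of a degenerate quadrangle. -/
theorem exists_params (hq3 : 3 < q) (θ : F) : ∃ z k : F,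
    z + σ z ≠ 0 ∧ z + σ z ≠ 1 ∧
    z + σ z + (k * σ θ + σ k * θ) + θ * σ θ ≠ 0 ∧ z + σ z + (k * σ θ + σ k * θ) + θ * σ θ ≠ 1 ∧
    1 + k * σ k - (z + σ z) ≠ 0 ∧ 1 + k * σ k - (z + σ z) ≠ 1 := by
  classical
  set N := θ * σ θ with hN
  by_cases h : ∃ x : F, σ x = x ∧ x ∉ ({0, 1, -N, 1 - N} : Finset F)
  · obtain ⟨x, hx, hmem⟩ := h
    simp only [Finset.mem_insert, Finset.mem_singleton, not_or] at hmem
    obtain ⟨h0, h1, h2, h3⟩ := hmem
    obtain ⟨z, hz⟩ := exists_tr hF hx
    refine ⟨z, 0, ?_⟩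
    simp only [zero_mul, map_zero, add_zero, hz]
    exact ⟨h0, h1, fun e => h2 (eq_neg_of_add_eq_zero_left e), fun e => h3 (eq_sub_of_add_eq e),
      sub_ne_zero.2 (Ne.symm h1), fun e => h0 (by simpa [sub_eq_self] using e)⟩
  · push_neg at h
    have hsub : (Finset.univ.filter fun x : F => σ x = x) ⊆ ({0, 1, -N, 1 - N} : Finset F) :=
      fun x hx => h x (Finset.mem_filter.1 hx).2
    have hcard : 4 ≤ ({0, 1, -N, 1 - N} : Finset F).card :=
      le_trans (le_trans hq3 (card_fixed hF)) (Finset.card_le_card hsub)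
    have hle4 : ({0, 1, -N, 1 - N} : Finset F).card ≤ 4 :=
      le_trans (Finset.card_insert_le _ _) (Nat.succ_le_succ
        (le_trans (Finset.card_insert_le _ _) (Nat.succ_le_succ Finset.card_le_two)))
    have hq4 : q = 4 := by
      have := le_trans (card_fixed hF) (Finset.card_le_card hsub)
      omega
    have htwo : (2 : F) = 0 := by
      have h16 : ((Fintype.card F : ℕ) : F) = 0 := FiniteField.cast_card_eq_zero F
      rw [hF, hq4] at h16
      by_contra h2
      exact h2 (eq_zero_of_pow_eq_zero (n := 4) (by push_cast at h16; linear_combination h16))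
    have hneg : ∀ x : F, -x = x := fun x => by linear_combination (-x) * htwo
    simp only [hneg] at hcard hle4
    have hN0 : N ≠ 0 := by
      intro e
      rw [e] at hcard
      simp [sub_zero] at hcard
    have hN1 : N ≠ 1 := by
      intro e
      rw [e] at hcard
      simp [sub_self] at hcard
    have hsN : σ N = N := norm_fixed hF θ
    have hcases : ∀ x : F, σ x = x → x = 0 ∨ x = 1 ∨ x = N ∨ x = 1 + N := fun x hx => by
      have := h x hx
      simpa [hneg, sub_eq_add_neg] using this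
    have hsq : N * N + N + 1 = 0 := by
      rcases hcases (N * N) (by rw [map_mul, hsN]) with e | e | e | e
      · exact absurd (mul_self_eq_zero.1 e) hN0
      · refine absurd ?_ hN1
        have : (N + 1) * (N + 1) = 0 := by linear_combination e + (N + 1) * htwo
        linear_combination mul_self_eq_zero.1 this - htwo
      · exact absurd (mul_right_cancel₀ hN0 (e.trans (one_mul N).symm)) hN1
      · linear_combination e + (N + 1) * htwo
    obtain ⟨t, ht⟩ := exists_tr hF (map_one (qConj hF))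
    -- adjust `t` so that its norm is `N + 1`
    obtain ⟨ν, hν, hνn⟩ : ∃ ν : F, ν + σ ν = 1 ∧ ν * σ ν = N + 1 := by
      rcases hcases (t * σ t) (norm_fixed hF t) with e | e | e | e
      · rcases mul_eq_zero.1 e with e' | e'
        · subst e'; simp at ht
        · rw [e', add_zero] at ht
          subst ht; simp at e'
      · exfalso
        -- then `t² + t + 1 = 0`, so `t` is fixed
        have hs : σ t = t + 1 := by linear_combination ht - t * htwo
        have h2 : t ^ 2 = t + 1 := by linear_combination e - t * hs - t * htwo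
        have h4 : σ t = t := by
          rw [qConj_apply, hq4]
          linear_combination (t ^ 2 + t + 2) * h2 + (1 + t) * htwo
        exact one_ne_zero (by linear_combination h4 - hs : (1 : F) = 0)
      · refine ⟨t + N, by rw [map_add, hsN]; linear_combination ht + N * htwo, ?_⟩
        rw [map_add, hsN]
        linear_combination e + N * ht + hsq - htwo
      · exact ⟨t, ht, by linear_combination e⟩
    obtain ⟨z, hz⟩ := exists_tr hF hsN
    have hk1 : (θ * ν) * σ θ + σ (θ * ν) * θ = N := by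
      rw [map_mul, hN]; linear_combination (θ * σ θ) * hν
    have hk2 : (θ * ν) * σ (θ * ν) = 1 := by
      rw [map_mul]; linear_combination (θ * σ θ) * hνn + hsq - htwo
    refine ⟨z, θ * ν, ?_⟩
    rw [hz, hk1, hk2, show N + N + N = N by linear_combination N * htwo,
      show (1 : F) + 1 - N = N by linear_combination (1 - N) * htwo]
    exact ⟨hN0, hN1, hN0, hN1, hN0, hN1⟩

/-! ### Subspaces -/

theorem exists_aniso {U : Submodule F (Fin m → F)} {u v : Fin m → F} (hu : u ∈ U) (hv : v ∈ U)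
    (h : ⟪u, v⟫ ≠ 0) : ∃ w ∈ U, ⟪w, w⟫ ≠ 0 := by
  by_contra! hall
  obtain ⟨t, ht⟩ : ∃ t : F, t + σ t = 1 := exists_tr hF (map_one _)
  have hvu : ⟪v, u⟫ = σ ⟪u, v⟫ := herm_flip hF v u
  have key := hall (u + σ (t / ⟪u, v⟫) • v) (U.add_mem hu (U.smul_mem _ hv))
  simp only [herm_addl hF, herm_addr hF, herm_smull hF, herm_smulr hF, hall u hu, hall v hv,
    qConj_qConj, hvu, mul_zero, add_zero, zero_add] at key
  rw [← map_mul, div_mul_cancel₀ _ h, ht] at key
  exact one_ne_zero key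

/-- In the orthogonal of a subspace of dimension `< m` there is a vector pairing non-trivially. -/
theorem exists_unit_perp (W : Submodule F (Fin m → F)) (hW : Module.finrank F W < m)
    (hrad : ∀ x ∈ W, (∀ w ∈ W, ⟪x, w⟫ = 0) → x = 0) :
    ∃ v, ⟪v, v⟫ = 1 ∧ ∀ w ∈ W, ⟪v, w⟫ = 0 := by
  have hf := isUnitaryForm_hermForm hF m
  obtain ⟨x, hx, hx0⟩ : ∃ x ∈ MaxSub.hPerp hf W, x ≠ 0 := by
    refine Submodule.exists_mem_ne_zero_of_ne_bot fun e => ?_
    have := MaxSub.finrank_le_finrank_hPerp_add hf W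
    rw [e, finrank_bot] at this
    omega
  obtain ⟨w, hw, hw0⟩ : ∃ w ∈ MaxSub.hPerp hf W, ⟪w, w⟫ ≠ 0 := by
    by_cases hxW : x ∈ W
    · exact absurd (hrad x hxW hx) hx0
    · obtain ⟨y, hy, hxy⟩ := MaxSub.exists_hPerp_of_notMem hf hxW
      exact exists_aniso hF hx hy hxy
  obtain ⟨l, -, hl, -⟩ := exists_scale hF hw0
  exact ⟨l • w, hl, fun u hu => by rw [herm_smull hF, hw u hu, mul_zero]⟩

/-- Two points have a common neighbour. -/
theorem exists_perp_two (hm : 4 ≤ m) {a c : Fin m → F} (ha : ⟪a, a⟫ = 1) :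
    ∃ v, ⟪v, v⟫ = 1 ∧ ⟪v, a⟫ = 0 ∧ ⟪v, c⟫ = 0 := by
  classical
  have hf := isUnitaryForm_hermForm hF m
  set W := Submodule.span F ({a, c} : Set (Fin m → F)) with hW
  have haW : a ∈ W := Submodule.subset_span (by simp)
  have hcW : c ∈ W := Submodule.subset_span (by simp)
  have hd : Module.finrank F W ≤ 2 := by
    refine le_trans (finrank_span_le_card _) ?_
    rw [Set.toFinset_insert, Set.toFinset_singleton]
    exact Finset.card_le_two
  by_contra! hall
  have hiso : ∀ v ∈ MaxSub.hPerp hf W, ⟪v, v⟫ = 0 := fun v hv => by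
    by_contra hne
    obtain ⟨l, -, hl, -⟩ := exists_scale hF hne
    exact hall (l • v) hl (by rw [herm_smull hF, hv a haW, mul_zero])
      (by rw [herm_smull hF, hv c hcW, mul_zero])
  -- the orthogonal is totally isotropic, hence inside `W`
  have hle : MaxSub.hPerp hf W ≤ W := fun x hx => by
    by_contra hxW
    obtain ⟨y, hy, hxy⟩ := MaxSub.exists_hPerp_of_notMem hf hxW
    obtain ⟨w, hw, hw0⟩ := exists_aniso hF hx hy hxy
    exact hw0 (hiso w hw)
  have hlt : MaxSub.hPerp hf W < W := lt_of_le_of_ne hle fun e => by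
    have h' := hiso a (e.symm ▸ haW)
    rw [ha] at h'
    exact one_ne_zero h'
  have h1 := Submodule.finrank_lt_finrank_of_lt hlt
  have h2 := MaxSub.finrank_le_finrank_hPerp_add hf W
  omega

theorem finrank_span_three (x y z : Fin m → F) :
    Module.finrank F (Submodule.span F ({x, y, z} : Set (Fin m → F))) ≤ 3 := by
  classical
  refine le_trans (finrank_span_le_card _) ?_
  rw [Set.toFinset_insert, Set.toFinset_insert, Set.toFinset_singleton]
  exact Finset.card_le_three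

/-- Three points spanning a non-degenerate space have a common neighbour. -/
theorem exists_perp_three (hm : 4 ≤ m) {e b c : Fin m → F} (hb : ⟪b, b⟫ = 1) (hc : ⟪c, c⟫ = 1)
    (hbc : ⟪b, c⟫ = 0) (hdet : ⟪e, e⟫ - ⟪e, b⟫ * σ ⟪e, b⟫ - ⟪e, c⟫ * σ ⟪e, c⟫ ≠ 0) :
    ∃ v, ⟪v, v⟫ = 1 ∧ ⟪v, e⟫ = 0 ∧ ⟪v, b⟫ = 0 ∧ ⟪v, c⟫ = 0 := by
  set W := Submodule.span F ({e, b, c} : Set (Fin m → F)) with hW
  have heW : e ∈ W := Submodule.subset_span (by simp)
  have hbW : b ∈ W := Submodule.subset_span (by simp)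
  have hcW : c ∈ W := Submodule.subset_span (by simp)
  obtain ⟨v, hv, hvW⟩ := exists_unit_perp hF W
    (lt_of_le_of_lt (finrank_span_three hF e b c) (by omega)) (by
      intro x hx hxW
      obtain ⟨k1, k2, k3, rfl⟩ := Submodule.mem_span_triple.1 hx
      have hcb := herm_orth_comm hF hbc
      have heb : ⟪b, e⟫ = σ ⟪e, b⟫ := herm_flip hF b e
      have hec : ⟪c, e⟫ = σ ⟪e, c⟫ := herm_flip hF c e
      have he1 := hxW e heW
      have hb1 := hxW b hbW
      have hc1 := hxW c hcW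
      simp only [herm_addl hF, herm_smull hF, hb, hc, hbc, hcb, heb, hec] at he1 hb1 hc1
      have h0 : k1 * (⟪e, e⟫ - ⟪e, b⟫ * σ ⟪e, b⟫ - ⟪e, c⟫ * σ ⟪e, c⟫) = 0 := by
        linear_combination he1 - σ ⟪e, b⟫ * hb1 - σ ⟪e, c⟫ * hc1
      obtain rfl : k1 = 0 := (mul_eq_zero.1 h0).resolve_right hdet
      obtain rfl : k2 = 0 := by linear_combination hb1
      obtain rfl : k3 = 0 := by linear_combination hc1
      simp)
  exact ⟨v, hv, hvW e heW, hvW b hbW, hvW c hcW⟩

/-- A common neighbour `b'` of `a`, `c` such that `e, b', c` span a non-degenerate space. -/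
theorem exists_replace (hq3 : 3 < q) (hm : 4 ≤ m) {a b c e : Fin m → F} (ha : ⟪a, a⟫ = 1)
    (hb : ⟪b, b⟫ = 1) (hc : ⟪c, c⟫ = 1) (he : ⟪e, e⟫ = 1) (hba : ⟪b, a⟫ = 0) (hbc : ⟪b, c⟫ = 0)
    (hea : ⟪e, a⟫ = 0) (hec : ⟪e, c⟫ ≠ 0) (hac : ⟪c, a⟫ ≠ 0) :
    ∃ b', ⟪b', b'⟫ = 1 ∧ ⟪b', a⟫ = 0 ∧ ⟪b', c⟫ = 0 ∧
      1 - ⟪e, b'⟫ * σ ⟪e, b'⟫ - ⟪e, c⟫ * σ ⟪e, c⟫ ≠ 0 := by
  by_contra! hall
  set R := 1 - ⟪e, c⟫ * σ ⟪e, c⟫ with hR
  -- homogeneous form of the failure
  have hom : ∀ v, ⟪v, a⟫ = 0 → ⟪v, c⟫ = 0 → ⟪v, v⟫ ≠ 0 →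
      ⟪e, v⟫ * σ ⟪e, v⟫ = R * ⟪v, v⟫ := fun v hva hvc hv => by
    obtain ⟨l, hl0, hl, hln⟩ := exists_scale hF hv
    have := hall (l • v) hl (by rw [herm_smull hF, hva, mul_zero]) (by rw [herm_smull hF, hvc, mul_zero])
    rw [herm_smulr hF, map_mul, qConj_qConj] at this
    have hl1 : l * σ l ≠ 0 := mul_ne_zero hl0 ((map_ne_zero _).2 hl0)
    apply mul_left_cancel₀ hl1
    linear_combination -this - R * hln
  set A := ⟪e, b⟫ with hA
  have hNA : A * σ A = R := by simpa [hb] using hom b hba hbc (by rw [hb]; exact one_ne_zero)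
  -- vectors of the common orthogonal that are orthogonal to `b`
  have perp : ∀ v, ⟪v, a⟫ = 0 → ⟪v, c⟫ = 0 → ⟪v, b⟫ = 0 → ⟪e, v⟫ * σ A = 0 := by
    intro v hva hvc hvb
    by_contra hne
    obtain ⟨x, hx1, hx2⟩ := exists_tr_ne hF hq3 (C := A * σ ⟪e, v⟫)
      (fun h => hne (by rw [← qConj_qConj hF (⟪e, v⟫), ← map_mul, mul_comm, h, map_zero]))
      (R * ⟪v, v⟫ - ⟪e, v⟫ * σ ⟪e, v⟫) (-⟪v, v⟫)
    have hbv := herm_orth_comm hF hvb
    have hn : ⟪v + x • b, v + x • b⟫ = ⟪v, v⟫ + x * σ x := by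
      simp only [herm_addl hF, herm_addr hF, herm_smull hF, herm_smulr hF, hvb, hbv, hb]
      ring
    have := hom (v + x • b) (by rw [herm_addl hF, herm_smull hF, hva, hba, mul_zero, add_zero])
      (by rw [herm_addl hF, herm_smull hF, hvc, hbc, mul_zero, add_zero])
      (by rw [hn]; exact fun h => hx1 (eq_neg_of_add_eq_zero_right h))
    rw [hn, herm_addr hF, herm_smulr hF, ← hA, map_add, map_mul, qConj_qConj] at this
    apply hx2
    rw [map_mul, qConj_qConj]
    linear_combination this - (x * σ x) * hNA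
  by_cases hdeg : ⟪c, a⟫ * σ ⟪c, a⟫ = 1
  · -- the radical of `⟨a, c⟩` is seen by `e`
    have hac' : ⟪a, c⟫ = σ ⟪c, a⟫ := herm_flip hF a c
    set r := c - ⟪c, a⟫ • a with hr
    have hra : ⟪r, a⟫ = 0 := by rw [hr, herm_subl hF, herm_smull hF, ha, mul_one, sub_self]
    have hrc : ⟪r, c⟫ = 0 := by rw [hr, herm_subl hF, herm_smull hF, hc, hac', hdeg, sub_self]
    have hab := herm_orth_comm hF hba
    have hcb := herm_orth_comm hF hbc
    have hrb : ⟪r, b⟫ = 0 := by rw [hr, herm_subl hF, herm_smull hF, hcb, hab, mul_zero, sub_zero]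
    have her : ⟪e, r⟫ = ⟪e, c⟫ := by rw [hr, herm_subr hF, herm_smulr hF, hea, mul_zero, sub_zero]
    have hA0 : A = 0 := by
      have := perp r hra hrc hrb
      rw [her] at this
      exact (map_eq_zero _).1 ((mul_eq_zero.1 this).resolve_left hec)
    have hR0 : R = 0 := by rw [← hNA, hA0, zero_mul]
    obtain ⟨y, hy⟩ : ∃ y, y + σ y = 1 := exists_tr hF (map_one _)
    have := hom (b + r) (by rw [herm_addl hF, hba, hra, add_zero]) (by rw [herm_addl hF, hbc, hrc, add_zero])
      (by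
        have hrr : ⟪r, r⟫ = 0 := by rw [hr, herm_subr hF, ← hr, herm_smulr hF, hrc, hra, mul_zero, sub_zero]
        rw [herm_addl hF, herm_addr hF, herm_addr hF, hb, hrb, herm_orth_comm hF hrb, hrr]
        simp)
    rw [hR0, zero_mul, herm_addr hF, ← hA, hA0, zero_add, her] at this
    exact (mul_eq_zero.1 this).elim hec fun h => hec ((map_eq_zero _).1 h)
  · -- there is a unit vector orthogonal to `a`, `c`, `b`
    obtain ⟨u, hu, hua, hub, huc⟩ := exists_perp_three hF hm (e := a) (b := b) (c := c) hb hc hbc (by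
      rw [ha, herm_orth_comm hF hba, zero_mul, sub_zero, herm_flip hF a c, qConj_qConj, mul_comm]
      exact sub_ne_zero.2 (Ne.symm hdeg))
    have hu1 : ⟪u, u⟫ ≠ 0 := by rw [hu]; exact one_ne_zero
    by_cases hA0 : A = 0
    · -- `e` is orthogonal to the whole common orthogonal of `a`, `c`
      have hR0 : R = 0 := by rw [← hNA, hA0, zero_mul]
      have hz : ∀ v, ⟪v, a⟫ = 0 → ⟪v, c⟫ = 0 → ⟪e, v⟫ = 0 := by
        intro v hva hvc
        have h0 : ∀ w, ⟪w, a⟫ = 0 → ⟪w, c⟫ = 0 → ⟪w, w⟫ ≠ 0 → ⟪e, w⟫ = 0 := fun w h1 h2 h3 => by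
          have := hom w h1 h2 h3
          rw [hR0, zero_mul] at this
          exact (mul_eq_zero.1 this).elim id fun h => (map_eq_zero _).1 h
        by_cases hv : ⟪v, v⟫ = 0
        · obtain ⟨x, hx, -⟩ := exists_tr_ne hF hq3 (one_ne_zero (α := F)) (2 : F)
            (-(0 : F))
          by_cases hw : ⟪b + v, b + v⟫ = 0
          · obtain ⟨t, ht1, ht2⟩ := exists_tr_ne hF hq3 (C := ⟪b, v⟫)
              (fun h => one_ne_zero (α := F) (by
                rw [← hw, herm_addl hF, herm_addr hF, herm_addr hF, hb, hv, h, herm_orth_comm hF h]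
                ring)) (-1) 0
            have hne : ⟪b + t • v, b + t • v⟫ ≠ 0 := by
              simp only [herm_addl hF, herm_addr hF, herm_smull hF, herm_smulr hF, hb, hv,
                herm_flip hF v b]
              intro h'
              exact ht2 (by linear_combination h')
            have := h0 (b + t • v) (by rw [herm_addl hF, herm_smull hF, hba, hva, mul_zero, add_zero])
              (by rw [herm_addl hF, herm_smull hF, hbc, hvc, mul_zero, add_zero]) hne
            rw [herm_addr hF, herm_smulr hF, ← hA, hA0, zero_add] at this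
            exact (mul_eq_zero.1 this).resolve_left ((map_ne_zero _).2 fun h => ht1 (by rw [h, zero_mul]))
          · have := h0 (b + v) (by rw [herm_addl hF, hba, hva, add_zero])
              (by rw [herm_addl hF, hbc, hvc, add_zero]) hw
            rwa [herm_addr hF, ← hA, hA0, zero_add] at this
        · exact h0 v hva hvc hv
      -- so `e` lies in `⟨a, c⟩`
      have heW : e ∈ Submodule.span F ({a, c} : Set (Fin m → F)) := by
        by_contra hne
        obtain ⟨y, hy, hey⟩ := MaxSub.exists_hPerp_of_notMem (isUnitaryForm_hermForm hF m) hne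
        exact hey (hz y (hy a (Submodule.subset_span (by simp))) (hy c (Submodule.subset_span (by simp))))
      obtain ⟨k1, k2, hk⟩ := Submodule.mem_span_pair.1 heW
      have hac' : ⟪a, c⟫ = σ ⟪c, a⟫ := herm_flip hF a c
      have he1 : k1 + k2 * ⟪c, a⟫ = 0 := by
        rw [← hea, ← hk, herm_addl hF, herm_smull hF, herm_smull hF, ha, mul_one]
      have he2 : ⟪e, c⟫ = k2 * (1 - ⟪c, a⟫ * σ ⟪c, a⟫) := by
        rw [← hk, herm_addl hF, herm_smull hF, herm_smull hF, hc, hac']
        linear_combination (σ ⟪c, a⟫) * he1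
      have hce : ⟪c, e⟫ = σ ⟪e, c⟫ := herm_flip hF c e
      have he3 : (1 : F) = k2 * σ ⟪e, c⟫ := by
        calc (1 : F) = Cfsg.hermForm m F q (k1 • a + k2 • c) e := by rw [hk, he]
          _ = k2 * σ ⟪e, c⟫ := by
            rw [herm_addl hF, herm_smull hF, herm_smull hF, herm_orth_comm hF hea, hce]
            ring
      apply hac
      have h9 : k2 * σ ⟪e, c⟫ * (1 - ⟪c, a⟫ * σ ⟪c, a⟫) = ⟪e, c⟫ * σ ⟪e, c⟫ := by
        rw [he2]; ring
      rw [← he3, one_mul] at h9
      have : ⟪c, a⟫ * σ ⟪c, a⟫ = 0 := by linear_combination -h9 + hR0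
      exact (mul_eq_zero.1 this).elim id fun h => (map_eq_zero _).1 h
    · have h0 : ⟪e, u⟫ = 0 :=
        (mul_eq_zero.1 (perp u hua huc hub)).resolve_right ((map_ne_zero _).2 hA0)
      have := hom u hua huc hu1
      rw [h0, zero_mul, hu, mul_one] at this
      exact hA0 ((mul_self_eq_zero (M₀ := F)).1 (by
        rcases mul_eq_zero.1 (hNA.trans this.symm) with h | h
        · rw [h, zero_mul]
        · rw [(map_eq_zero _).1 h, zero_mul]))

/-- The apex of a degenerate quadrangle `a, b, c, d`. -/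
theorem exists_apex (hq3 : 3 < q) {a b c d : Fin m → F} (ha : ⟪a, a⟫ = 1) (hb : ⟪b, b⟫ = 1)
    (hc : ⟪c, c⟫ = 1) (hba : ⟪b, a⟫ = 0) (hbc : ⟪b, c⟫ = 0) (hda : ⟪d, a⟫ = 0)
    (hdc : ⟪d, c⟫ = 0) (hdeg : ⟪c, a⟫ * σ ⟪c, a⟫ = 1) (hbd : ⟪d, b⟫ * σ ⟪d, b⟫ = 1)
    (hne : ¬ Same a c) :
    ∃ x y e : Fin m → F, ⟪x, x⟫ = 1 ∧ ⟪y, y⟫ = 1 ∧ ⟪e, e⟫ = 1 ∧
      ⟪x, a⟫ = 0 ∧ ⟪x, b⟫ = 0 ∧ ⟪y, a⟫ = 0 ∧ ⟪y, d⟫ = 0 ∧
      ⟪e, x⟫ = 0 ∧ ⟪e, y⟫ = 0 ∧ ⟪e, c⟫ = 0 ∧
      ⟪x, c⟫ * σ ⟪x, c⟫ ≠ 1 ∧ ⟪y, c⟫ * σ ⟪y, c⟫ ≠ 1 ∧ ⟪e, a⟫ * σ ⟪e, a⟫ ≠ 1 := by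
  classical
  set α := ⟪c, a⟫ with hα
  set β := ⟪d, b⟫ with hβ
  have hab := herm_orth_comm hF hba
  have hcb := herm_orth_comm hF hbc
  have had := herm_orth_comm hF hda
  have hcd := herm_orth_comm hF hdc
  set r := σ α • c - a with hr
  set r2 := σ β • d - b with hr2
  have hc0 : c = α • (a + r) := by
    rw [hr, add_sub_cancel, smul_smul, hdeg, one_smul]
  have hd0 : d = β • (b + r2) := by
    rw [hr2, add_sub_cancel, smul_smul, hbd, one_smul]
  have hra : ⟪r, a⟫ = 0 := by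
    rw [hr, herm_subl hF, herm_smull hF, ← hα, ha]
    linear_combination hdeg
  have hrb : ⟪r, b⟫ = 0 := by rw [hr, herm_subl hF, herm_smull hF, hcb, hab, mul_zero, sub_zero]
  have hrr : ⟪r, r⟫ = 0 := by
    rw [hr, herm_subl hF, ← hr, herm_smull hF, herm_orth_comm hF hra, hr, herm_subr hF,
      herm_smulr hF, qConj_qConj, hc, ← hα]
    ring
  have hr2b : ⟪r2, b⟫ = 0 := by
    rw [hr2, herm_subl hF, herm_smull hF, ← hβ, hb]
    linear_combination hbd
  have hr2r : ⟪r2, r⟫ = 0 := by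
    rw [hr, hr2]
    simp only [herm_subl hF, herm_subr hF, herm_smull hF, herm_smulr hF, hdc, hda, hbc, hba,
      mul_zero, sub_zero]
  have hrne : r ≠ 0 := fun h0 => hne ⟨α, fun h => by rw [h, zero_mul] at hdeg; exact zero_ne_one hdeg,
    by rw [hc0, h0, add_zero]⟩
  -- an isotropic partner of `r`
  obtain ⟨s, hsa, hsb, hss, hsr⟩ : ∃ s, ⟪s, a⟫ = 0 ∧ ⟪s, b⟫ = 0 ∧ ⟪s, s⟫ = 0 ∧ ⟪s, r⟫ = 1 := by
    have hf := isUnitaryForm_hermForm hF m
    obtain ⟨y, hy, hry⟩ := MaxSub.exists_hPerp_of_notMem hf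
      (W := Submodule.span F ({a, b} : Set (Fin m → F))) (x := r) (fun h => by
        obtain ⟨k1, k2, hk⟩ := Submodule.mem_span_pair.1 h
        have e1 := hra
        have e2 := hrb
        rw [← hk] at e1 e2
        simp only [herm_addl hF, herm_smull hF, ha, hb, hab, hba, mul_one, mul_zero, add_zero,
          zero_add] at e1 e2
        exact hrne (by rw [← hk, e1, e2, zero_smul, zero_smul, add_zero]))
    have hya : ⟪y, a⟫ = 0 := hy a (Submodule.subset_span (by simp))
    have hyb : ⟪y, b⟫ = 0 := hy b (Submodule.subset_span (by simp))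
    have hyr : ⟪y, r⟫ ≠ 0 := fun h => hry (herm_orth_comm hF h)
    obtain ⟨t, ht⟩ := MaxSub.exists_shift hf hrr hyr
    refine ⟨(⟪y, r⟫)⁻¹ • (y + t • r), ?_, ?_, ?_, ?_⟩
    · rw [herm_smull hF, herm_addl hF, herm_smull hF, hya, hra, mul_zero, add_zero, mul_zero]
    · rw [herm_smull hF, herm_addl hF, herm_smull hF, hyb, hrb, mul_zero, add_zero, mul_zero]
    · rw [herm_smull hF, herm_smulr hF, ht, mul_zero, mul_zero]
    · rw [herm_smull hF, herm_addl hF, herm_smull hF, hrr, mul_zero, add_zero, inv_mul_cancel₀ hyr]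
  set θ := ⟪s, r2⟫ with hθ
  obtain ⟨z, k, hx0, hx1, hy0, hy1, he0, he1⟩ := exists_params hF hq3 θ
  have hrs : ⟪r, s⟫ = 1 := by rw [herm_flip hF, hsr, map_one]
  have hbs := herm_orth_comm hF hsb
  have hbr := herm_orth_comm hF hrb
  have has := herm_orth_comm hF hsa
  have har := herm_orth_comm hF hra
  set x := s + z • r with hx
  set y := s + (z + σ k * θ) • r - θ • b with hy
  set e := -a + s + (-σ z) • r + k • b with he
  have hxx : ⟪x, x⟫ = z + σ z := by
    simp only [hx, herm_addl hF, herm_addr hF, herm_smull hF, herm_smulr hF, hss, hsr, hrs, hrr]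
    ring
  have hyy : ⟪y, y⟫ = z + σ z + (k * σ θ + σ k * θ) + θ * σ θ := by
    simp only [hy, herm_subl hF, herm_subr hF, herm_addl hF, herm_addr hF, herm_smull hF,
      herm_smulr hF, hss, hsr, hrs, hrr, hsb, hbs, hrb, hbr, hb, map_add, map_mul, qConj_qConj]
    ring
  have hee : ⟪e, e⟫ = 1 + k * σ k - (z + σ z) := by
    simp only [he, herm_addl hF, herm_addr hF, herm_negl hF, herm_negr hF, herm_smull hF,
      herm_smulr hF, hss, hsr, hrs, hrr, hsb, hbs, hrb, hbr, hb, ha, hab, hba, hsa, has, hra, har,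
      map_neg, qConj_qConj]
    ring
  obtain ⟨lx, -, hlx, hlx'⟩ := exists_scale hF (v := x) (by rw [hxx]; exact hx0)
  obtain ⟨ly, -, hly, hly'⟩ := exists_scale hF (v := y) (by rw [hyy]; exact hy0)
  obtain ⟨le, -, hle, hle'⟩ := exists_scale hF (v := e) (by rw [hee]; exact he0)
  have hcc : ∀ v : Fin m → F, ⟪v, c⟫ = σ α * (⟪v, a⟫ + ⟪v, r⟫) := fun v => by
    rw [hc0, herm_smulr hF, herm_addr hF]
  have hxc : ⟪x, c⟫ = σ α := by
    rw [hcc]; simp only [hx, herm_addl hF, herm_smull hF, hsr, hrr, hsa, hra]; ring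
  have hyc : ⟪y, c⟫ = σ α := by
    rw [hcc]
    simp only [hy, herm_subl hF, herm_addl hF, herm_smull hF, hsr, hrr, hsa, hra, hba, hbr]
    ring
  have hea : ⟪e, a⟫ = -1 := by
    simp only [he, herm_addl hF, herm_negl hF, herm_smull hF, ha, hsa, hra, hba]
    ring
  refine ⟨lx • x, ly • y, le • e, hlx, hly, hle, ?_, ?_, ?_, ?_, ?_, ?_, ?_, ?_, ?_, ?_⟩
  · rw [herm_smull hF]
    simp only [hx, herm_addl hF, herm_smull hF, hsa, hra, mul_zero, add_zero]
  · rw [herm_smull hF]
    simp only [hx, herm_addl hF, herm_smull hF, hsb, hrb, mul_zero, add_zero]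
  · rw [herm_smull hF]
    simp only [hy, herm_subl hF, herm_addl hF, herm_smull hF, hsa, hra, hba, mul_zero, add_zero,
      sub_zero]
  · have h2 : ⟪r, r2⟫ = 0 := herm_orth_comm hF hr2r
    have h3 : ⟪b, r2⟫ = 0 := herm_orth_comm hF hr2b
    rw [herm_smull hF, hd0, herm_smulr hF]
    simp only [hy, herm_subl hF, herm_addl hF, herm_addr hF, herm_smull hF, hsb, hrb, hb, ← hθ, h2,
      h3]
    ring
  · rw [herm_smull hF, herm_smulr hF]
    simp only [he, hx, herm_addl hF, herm_addr hF, herm_negl hF, herm_smull hF, herm_smulr hF, hss,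
      hsr, hrs, hrr, has, har, hbs, hbr]
    ring
  · rw [herm_smull hF, herm_smulr hF]
    simp only [he, hy, herm_subr hF, herm_addl hF, herm_addr hF, herm_negl hF, herm_smull hF,
      herm_smulr hF, hss, hsr, hrs, hrr, has, har, hsb, hbs, hrb, hbr, hab, hb, map_add, map_mul,
      qConj_qConj]
    ring
  · rw [herm_smull hF, hcc]
    simp only [he, herm_addl hF, herm_negl hF, herm_smull hF, ha, hsa, hsr, har, hra, hrr, hba,
      hbr]
    ring
  · rw [herm_smull hF, hxc, map_mul, qConj_qConj]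
    intro h
    apply hx1
    rw [← hxx]
    linear_combination hlx' - ⟪x, x⟫ * h + (lx * σ lx * ⟪x, x⟫) * hdeg
  · rw [herm_smull hF, hyc, map_mul, qConj_qConj]
    intro h
    apply hy1
    rw [← hyy]
    linear_combination hly' - ⟪y, y⟫ * h + (ly * σ ly * ⟪y, y⟫) * hdeg
  · rw [herm_smull hF, hea, map_mul, map_neg, map_one]
    intro h
    apply he1
    rw [← hee]
    linear_combination hle' - ⟪e, e⟫ * h

end

end CfsgLib.Recog.Phan
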