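import Cfsg.Agent.Lib.Recog.Phan.Cover

/-!
# `SU m` is the universal completion of its Phan amalgam (`q > 3`)
-/

set_option autoImplicit false

namespace CfsgLib.Recog.Phan

variable {F : Type*} [Field F] [Fintype F] {q : ℕ}

/-- The first `m` coordinates of an amalgam of dimension `m + 1`. -/
def Sys.restrict {G : Type*} [Group G] {m : ℕ} (S : Sys (m + 1) G F q) : Sys m G F q where
  phi i h := S.phi i (by omega)
  pair i h := S.pair i (by omega)
  phi_left i h x := S.phi_left i (by omega) x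
  phi_right i h x := S.phi_right i (by omega) x
  comm i j hi hj hd x y := S.comm i j (by omega) (by omega) hd x y

/-- The pairs of an amalgam extend to the whole group. -/
theorem exists_hom_pairs (hF : Fintype.card F = q ^ 2) (hq : 3 < q) (G : Type*) [Group G] :
    ∀ (m : ℕ), 3 ≤ m → ∀ S : Sys m G F q, ∃ f : Cfsg.SU m F q →* G,
      ∀ (i : ℕ) (h : i + 2 ≤ m) (x : Cfsg.SU 2 F q), f (emb i h x) = S.pair i h x := by
  intro m hm
  induction m, hm using Nat.le_induction with
  | base =>
    refine fun S => ⟨S.phi 0 le_rfl, fun i h x => ?_⟩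
    rcases (by omega : i = 0 ∨ i = 1) with rfl | rfl
    · exact S.phi_left 0 le_rfl x
    · exact S.phi_right 0 le_rfl x
  | succ m hm ih =>
    obtain ⟨j, rfl⟩ : ∃ j, m = j + 3 := ⟨m - 3, by omega⟩
    intro S
    obtain ⟨h0, hh0⟩ := ih S.restrict
    exact Ctx.exists_hom ⟨hF, hq, S, h0, hh0⟩

/-- Phan's theorem: an amalgam extends to a homomorphism of `SU m`. -/
theorem exists_hom (hF : Fintype.card F = q ^ 2) (hq : 3 < q) {G : Type*} [Group G] {m : ℕ}
    (hm : 3 ≤ m) (S : Sys m G F q) : ∃ f : Cfsg.SU m F q →* G,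
      ∀ (i : ℕ) (h : i + 3 ≤ m) (x : Cfsg.SU 3 F q), f (emb i h x) = S.phi i h x := by
  obtain ⟨f, hf⟩ := exists_hom_pairs hF hq G m hm S
  refine ⟨f, fun i h x => ?_⟩
  have key : f.comp (emb i h) = S.phi i h := by
    refine hom_ext_pairs hF (by omega) (by omega) _ _ fun a ha y => ?_
    rcases (by omega : a = 0 ∨ a = 1) with rfl | rfl
    · rw [MonoidHom.comp_apply, emb_emb, emb_congr (Nat.add_zero i), hf]
      exact (S.phi_left i h y).symm
    · rw [MonoidHom.comp_apply, emb_emb, hf]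
      exact (S.phi_right i h y).symm
  exact DFunLike.congr_fun key x

/-- If the amalgam generates, `G` is a homomorphic image of `SU m`. -/
theorem exists_surjective (hF : Fintype.card F = q ^ 2) (hq : 3 < q) {G : Type*} [Group G] {m : ℕ}
    (hm : 3 ≤ m) (S : Sys m G F q)
    (hgen : ∀ P : Subgroup G, (∀ (i : ℕ) (h : i + 3 ≤ m) (x : Cfsg.SU 3 F q), S.phi i h x ∈ P) →
      P = ⊤) :
    ∃ f : Cfsg.SU m F q →* G, Function.Surjective f := by
  obtain ⟨f, hf⟩ := exists_hom hF hq hm S
  exact ⟨f, MonoidHom.range_eq_top.1 (hgen f.range fun i h x => ⟨_, hf i h x⟩)⟩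

end CfsgLib.Recog.Phan
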