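import Cfsg.Agent.Lib.KnownB.UnitaryEmbed
import Cfsg.Agent.Lib.KnownC.AutPSLMain
import Cfsg.Agent.Lib.MaxSub.HermFull

/-!
Automorphisms of `SU₂(q)`: every one is semilinear; those preserving the diagonal torus are given by a norm-one
scalar and a field automorphism.
-/

set_option autoImplicit false
set_option linter.unusedSectionVars false

namespace CfsgLib.Recog.Phan.Norm

open Matrix CfsgLib.MaxSub
open scoped MatrixGroups

universe u
variable {F : Type u} [Field F] [Fintype F] {q n : ℕ} (hF : Fintype.card F = q ^ 2)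

/-- The matrix of an element of `SU_n`. -/
abbrev mat (A : Cfsg.SU n F q) : Matrix (Fin n) (Fin n) F :=
  ((A : SpecialLinearGroup (Fin n) F) : Matrix (Fin n) (Fin n) F)

theorem mat_ext {A B : Cfsg.SU n F q} (h : mat A = mat B) : A = B := Subtype.ext (Subtype.ext h)

theorem mat_mul (A B : Cfsg.SU n F q) : mat (A * B) = mat A * mat B := rfl

theorem mat_one : mat (1 : Cfsg.SU n F q) = 1 := rfl

include hF

theorem herm_eq_dot (x y : Fin n → F) : Cfsg.hermForm n F q x y = x ⬝ᵥ (qConj hF ∘ y) := by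
  simp [Cfsg.hermForm, dotProduct, qConj_apply hF]

/-- The defining identity. -/
theorem mat_unitary (A : Cfsg.SU n F q) : (mat A)ᵀ * (mat A).map (qConj hF) = 1 := by
  ext i j
  have h : Cfsg.hermForm n F q (mat A *ᵥ Pi.single i 1) (mat A *ᵥ Pi.single j 1) =
      Cfsg.hermForm n F q (Pi.single i 1) (Pi.single j 1) := A.2 (Pi.single i 1) (Pi.single j 1)
  rw [herm_eq_dot hF, herm_eq_dot hF, mulVec_single_one, mulVec_single_one, single_dotProduct, one_mul] at h
  rw [Matrix.mul_apply]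
  refine Eq.trans ?_ (h.trans ?_)
  · rfl
  · by_cases hij : i = j
    · subst hij; simp
    · simp [Matrix.one_apply_ne hij, Pi.single_eq_of_ne hij]

theorem mem_su_of_mat (A : SpecialLinearGroup (Fin n) F)
    (hA : (A : Matrix (Fin n) (Fin n) F)ᵀ * (A : Matrix (Fin n) (Fin n) F).map (qConj hF) = 1) :
    A ∈ Cfsg.SU n F q :=
  CfsgLib.KnownB.mem_SU_of_transpose_mul (qConj hF : F →+* F) (qConj_apply hF) A hA

/-- The shape of an element of `SU₂`. -/
theorem su_two_shape (A : Cfsg.SU 2 F q) :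
    mat A 1 0 = -qConj hF (mat A 0 1) ∧ mat A 1 1 = qConj hF (mat A 0 0) := by
  have h := mat_unitary hF A
  have hd : mat A 0 0 * mat A 1 1 - mat A 0 1 * mat A 1 0 = 1 := by
    rw [← det_fin_two]; exact (A : SpecialLinearGroup (Fin 2) F).2
  have e00 := congrFun (congrFun h 0) 0
  have e01 := congrFun (congrFun h 0) 1
  have e10 := congrFun (congrFun h 1) 0
  have e11 := congrFun (congrFun h 1) 1
  simp [Matrix.mul_apply, Fin.sum_univ_two] at e00 e01 e10 e11
  have f10 : qConj hF (mat A 0 1) = -mat A 1 0 := by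
    linear_combination -qConj hF (mat A 0 1) * hd + mat A 1 1 * e01 - mat A 1 0 * e11
  have f11 : qConj hF (mat A 0 0) = mat A 1 1 := by
    linear_combination -qConj hF (mat A 0 0) * hd + mat A 1 1 * e00 - mat A 1 0 * e10
  exact ⟨by rw [f10, neg_neg], f11.symm⟩

theorem qConj_comm (τ : F ≃+* F) (x : F) : τ (qConj hF x) = qConj hF (τ x) := by
  rw [qConj_apply hF, qConj_apply hF, map_pow]

/-- An automorphism of a finite subfield extends. -/
theorem exists_extend (F₀ : Subfield F) (σ₀ : F₀ ≃+* F₀) :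
    ∃ τ : F ≃+* F, ∀ x : F₀, τ x = σ₀ x := by
  obtain ⟨p, hp⟩ := CharP.exists F
  have := Fact.mk (CharP.char_is_prime F p)
  have : CharP F₀ p := (RingHom.charP_iff F₀.subtype F₀.subtype.injective p).2 hp
  let _ : Algebra (ZMod p) F₀ := ZMod.algebra _ p
  let _ : Fintype F₀ := Fintype.ofFinite F₀
  let a : F₀ ≃ₐ[ZMod p] F₀ := AlgEquiv.ofRingEquiv (f := σ₀) fun x => by
    rw [← ZMod.natCast_zmod_val x, map_natCast, map_natCast]
  obtain ⟨k, hk⟩ := (FiniteField.bijective_frobeniusAlgEquivOfAlgebraic_pow (ZMod p) F₀).2 a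
  refine ⟨(frobeniusEquiv F p) ^ (k : ℕ), fun x => ?_⟩
  have hF' : ∀ (m : ℕ) (y : F), ((frobeniusEquiv F p) ^ m) y = y ^ p ^ m := by
    intro m
    induction m with
    | zero => intro y; simp
    | succ m ih =>
      intro y
      rw [pow_succ, RingAut.mul_apply, ih, frobeniusEquiv_apply, frobenius_def, ← pow_mul, ← pow_succ']
  have hA : ∀ (m : ℕ) (y : F₀),
      ((FiniteField.frobeniusAlgEquivOfAlgebraic (ZMod p) F₀) ^ m) y = y ^ p ^ m := by
    intro m
    induction m with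
    | zero => intro y; simp
    | succ m ih =>
      intro y
      rw [pow_succ, AlgEquiv.mul_apply, ih, FiniteField.coe_frobeniusAlgEquivOfAlgebraic, ZMod.card, ← pow_mul,
        ← pow_succ']
  rw [hF', ← show a x = σ₀ x from rfl, ← hk, hA, SubmonoidClass.coe_pow]

/-- An element of the fixed field whose square is not one. -/
theorem exists_fixed_sq_ne (hq : 4 ≤ q) : ∃ a : F, qConj hF a = a ∧ a ≠ 0 ∧ a ^ 2 ≠ 1 := by
  obtain ⟨g, hg⟩ := IsCyclic.exists_generator (α := Fˣ)
  refine ⟨(g : F) ^ (q + 1), ?_, pow_ne_zero _ g.ne_zero, fun h => ?_⟩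
  · have hq2 : (g : F) ^ (q * q) = g := by rw [← pow_two, ← hF, FiniteField.pow_card]
    rw [qConj_apply hF, ← pow_mul, Nat.add_mul, one_mul, pow_add, hq2, ← pow_succ']
  · rw [← pow_mul, ← Units.val_pow_eq_pow_val, Units.val_eq_one] at h
    have hd := orderOf_dvd_of_pow_eq_one h
    rw [orderOf_eq_card_of_forall_mem_zpowers hg, Nat.card_units, Nat.card_eq_fintype_card, hF] at hd
    have := Nat.le_of_dvd (by omega) hd
    have h4 : 4 * q ≤ q ^ 2 := by rw [pow_two]; exact Nat.mul_le_mul_right q hq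
    omega

/-- A norm-one element whose square is not one. -/
theorem exists_norm_one_sq_ne (hq : 2 ≤ q) : ∃ a : F, a * qConj hF a = 1 ∧ a ^ 2 ≠ 1 := by
  obtain ⟨g, hg⟩ := IsCyclic.exists_generator (α := Fˣ)
  refine ⟨(g : F) ^ (q - 1), ?_, fun h => ?_⟩
  · rw [qConj_apply hF, ← pow_succ', ← pow_mul, show (q - 1) * (q + 1) = q ^ 2 - 1 by
      rw [mul_comm, ← Nat.sq_sub_sq, one_pow]]
    rw [← hF]
    exact FiniteField.pow_card_sub_one_eq_one _ g.ne_zero
  · rw [← pow_mul, ← Units.val_pow_eq_pow_val, Units.val_eq_one] at h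
    have hd := orderOf_dvd_of_pow_eq_one h
    rw [orderOf_eq_card_of_forall_mem_zpowers hg, Nat.card_units, Nat.card_eq_fintype_card, hF] at hd
    have := Nat.le_of_dvd (by omega) hd
    have h4 : 2 * q ≤ q ^ 2 := by rw [pow_two]; exact Nat.mul_le_mul_right q hq
    omega

set_option maxHeartbeats 1000000 in
/-- Every automorphism of `SU₂(q)` is semilinear. -/
theorem aut_semilinear (hq : 4 ≤ q) (α : MulAut (Cfsg.SU 2 F q)) :
    ∃ (h : GL (Fin 2) F) (τ : F ≃+* F), ∀ A, mat (α A) =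
      (h : Matrix (Fin 2) (Fin 2) F) * (mat A).map τ * ((h⁻¹ : GL (Fin 2) F) : Matrix (Fin 2) (Fin 2) F) := by
  classical
  set σ : F →+* F := (qConj hF : F →+* F) with hσdef
  have hσσ : ∀ x, σ (σ x) = x := qConj_qConj hF
  obtain ⟨-, T, hT, δ, hTT⟩ := CfsgLib.KnownB.exists_unitary_basis hF σ (qConj_apply hF) hσσ (by omega)
  set J : Matrix (Fin 2) (Fin 2) F := !![0, 1; -1, 0] with hJ
  have hδ : δ ≠ 0 := by
    rintro rfl
    have h := congrArg Matrix.det hTT
    rw [det_mul, det_transpose, zero_smul, det_zero, ← RingHom.mapMatrix_apply, ← RingHom.map_det] at h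
    exact mul_ne_zero hT.ne_zero ((map_ne_zero σ).2 hT.ne_zero) h
  let K : Subfield F := CfsgLib.KnownB.sigmaField σ
  let Tu : GL (Fin 2) F := (Matrix.isUnit_iff_isUnit_det T).2 hT |>.unit
  have hTu : (Tu : Matrix (Fin 2) (Fin 2) F) = T := rfl
  have hJm : ∀ M : Matrix (Fin 2) (Fin 2) F, M.det = 1 → Mᵀ * J * M = J := by
    intro M hM
    rw [det_fin_two] at hM
    ext i j
    fin_cases i <;> fin_cases j <;> simp [hJ, Matrix.mul_apply, Fin.sum_univ_two] <;>
      first | ring1 | linear_combination hM | linear_combination -hM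
  -- the isomorphism with the split group
  let e0 : SpecialLinearGroup (Fin 2) K →* SpecialLinearGroup (Fin 2) F :=
    (CfsgLib.KnownC.slConj Tu : MulAut _).toMonoidHom.comp (SpecialLinearGroup.map K.subtype)
  have he0 : ∀ B, (e0 B : Matrix (Fin 2) (Fin 2) F) =
      T * (B.1.map K.subtype) * ((Tu⁻¹ : GL (Fin 2) F) : Matrix (Fin 2) (Fin 2) F) := fun B => by
    show ((CfsgLib.KnownC.slConj Tu) (SpecialLinearGroup.map K.subtype B)).1 = _
    rw [CfsgLib.KnownC.slConj_coe]
    rfl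
  have hmem : ∀ B, e0 B ∈ Cfsg.SU 2 F q := by
    intro B
    refine mem_su_of_mat hF _ ?_
    rw [he0]
    set M := B.1.map K.subtype with hM
    set Ti := ((Tu⁻¹ : GL (Fin 2) F) : Matrix (Fin 2) (Fin 2) F) with hTi
    have hfix : M.map σ = M := by ext i j; exact (B.1 i j).2
    have hdet : M.det = 1 := by
      rw [hM, ← RingHom.mapMatrix_apply, ← RingHom.map_det, B.2, map_one]
    have h1 : T * Ti = 1 := by rw [hTi, ← hTu, ← Units.val_mul, mul_inv_cancel, Units.val_one]
    have h2 : T.map σ * Ti.map σ = 1 := by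
      rw [← Matrix.map_mul, h1, Matrix.map_one σ (map_zero σ) (map_one σ)]
    show (T * M * Ti)ᵀ * (T * M * Ti).map σ = 1
    rw [Matrix.map_mul, Matrix.map_mul, hfix, Matrix.transpose_mul, Matrix.transpose_mul]
    calc Tiᵀ * (Mᵀ * Tᵀ) * (T.map σ * M * Ti.map σ)
        = Tiᵀ * (Mᵀ * (Tᵀ * T.map σ) * M) * Ti.map σ := by simp only [Matrix.mul_assoc]
      _ = Tiᵀ * (Tᵀ * T.map σ) * Ti.map σ := by
        rw [hTT, Matrix.mul_smul, Matrix.smul_mul, hJm M hdet]
      _ = (Tiᵀ * Tᵀ) * (T.map σ * Ti.map σ) := by simp only [Matrix.mul_assoc]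
      _ = 1 := by rw [h2, ← Matrix.transpose_mul, h1, Matrix.transpose_one, Matrix.one_mul]
  let φ0 : SpecialLinearGroup (Fin 2) K →* Cfsg.SU 2 F q := e0.codRestrict _ hmem
  have hφ0 : ∀ B, mat (φ0 B) = T * (B.1.map K.subtype) * ((Tu⁻¹ : GL (Fin 2) F) : Matrix (Fin 2) (Fin 2) F) := he0
  have hinj : Function.Injective φ0 := by
    intro A B h
    have h1 : T * A.1.map K.subtype * ((Tu⁻¹ : GL (Fin 2) F) : Matrix (Fin 2) (Fin 2) F) =
        T * B.1.map K.subtype * ((Tu⁻¹ : GL (Fin 2) F) : Matrix (Fin 2) (Fin 2) F) := by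
      rw [← hφ0, ← hφ0, h]
    rw [← hTu, (Tu⁻¹).isUnit.mul_left_inj, Tu.isUnit.mul_right_inj] at h1
    refine Subtype.ext (Matrix.ext fun i j => Subtype.ext ?_)
    exact congrFun (congrFun h1 i) j
  have hsurj : Function.Surjective φ0 := by
    intro A
    set Ti := ((Tu⁻¹ : GL (Fin 2) F) : Matrix (Fin 2) (Fin 2) F) with hTi
    have h1 : T * Ti = 1 := by rw [hTi, ← hTu, ← Units.val_mul, mul_inv_cancel, Units.val_one]
    have h1' : Ti * T = 1 := by rw [hTi, ← hTu, ← Units.val_mul, inv_mul_cancel, Units.val_one]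
    set M := Ti * mat A * T with hM
    have hd : M.det = 1 := by
      rw [hM, det_mul, det_mul, show (mat A).det = 1 from (A : SpecialLinearGroup (Fin 2) F).2, mul_one,
        ← det_mul, h1', det_one]
    have hA : (mat A)ᵀ * (mat A).map σ = 1 := mat_unitary hF A
    have hMJ : Mᵀ * J * M.map σ = J := by
      have : δ • (Mᵀ * J * M.map σ) = δ • J := by
        rw [← Matrix.smul_mul, ← Matrix.mul_smul, ← hTT, hM, Matrix.map_mul, Matrix.map_mul,
          Matrix.transpose_mul, Matrix.transpose_mul]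
        calc Tᵀ * ((mat A)ᵀ * Tiᵀ) * (Tᵀ * T.map σ) * (Ti.map σ * (mat A).map σ * T.map σ)
            = Tᵀ * (mat A)ᵀ * (Tiᵀ * Tᵀ) * (T.map σ * Ti.map σ) * (mat A).map σ * T.map σ := by
              simp only [Matrix.mul_assoc]
          _ = Tᵀ * ((mat A)ᵀ * (mat A).map σ) * T.map σ := by
              rw [← Matrix.transpose_mul T Ti, h1, ← Matrix.map_mul, h1, Matrix.map_one σ (map_zero σ) (map_one σ),
                Matrix.transpose_one]
              simp only [Matrix.mul_assoc, Matrix.one_mul]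
          _ = Tᵀ * T.map σ := by rw [hA, Matrix.mul_one]
      exact smul_right_injective _ hδ this
    have hfix : M.map σ = M := by
      have h0 : Mᵀ * J * M.map σ = Mᵀ * J * M := hMJ.trans (hJm M hd).symm
      have hu : IsUnit (Mᵀ * J) := by
        rw [Matrix.isUnit_iff_isUnit_det, det_mul, det_transpose, hd, one_mul, hJ, det_fin_two_of]
        norm_num
      exact hu.mul_right_inj.1 h0
    let B : SpecialLinearGroup (Fin 2) K :=
      ⟨Matrix.of fun i j => (⟨M i j, congrFun (congrFun hfix i) j⟩ : K), by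
        refine Subtype.ext ?_
        show K.subtype (Matrix.of fun i j => (⟨M i j, congrFun (congrFun hfix i) j⟩ : K)).det = K.subtype 1
        rw [RingHom.map_det, map_one]
        exact hd⟩
    refine ⟨B, mat_ext ?_⟩
    rw [hφ0, show B.1.map K.subtype = M from rfl, hM]
    simp only [← Matrix.mul_assoc, h1, Matrix.one_mul]
    rw [Matrix.mul_assoc, h1, Matrix.mul_one]
  let φ : SpecialLinearGroup (Fin 2) K ≃* Cfsg.SU 2 F q := MulEquiv.ofBijective φ0 ⟨hinj, hsurj⟩
  have hφ : ∀ B, φ B = φ0 B := fun _ => rfl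
  let α₀ : MulAut (SpecialLinearGroup (Fin 2) K) := φ.trans (α.trans φ.symm)
  rcases CfsgLib.KnownC.mulAut_psl_cases (le_refl 2) (CfsgLib.KnownC.centerQuotAut _ α₀) with
    ⟨g, σ₀, hg⟩ | ⟨h3, -⟩
  swap
  · omega
  -- lifting from the quotient
  obtain ⟨a, haσ, ha0, ha2⟩ := exists_fixed_sq_ne hF hq
  have hperf : commutator (SpecialLinearGroup (Fin 2) K) = ⊤ :=
    SL2.commutator_eq_top (a := (⟨a, haσ⟩ : K)) (fun h => ha0 (congrArg Subtype.val h))
      (fun h => ha2 (congrArg Subtype.val h))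
  have heq : ∀ s, α₀ s = CfsgLib.KnownC.slConj g (CfsgLib.KnownC.slField σ₀ s) := by
    set β : MulAut (SpecialLinearGroup (Fin 2) K) := CfsgLib.KnownC.slConj g * CfsgLib.KnownC.slField σ₀
    have hq' : ∀ s, (α₀ s)⁻¹ * β s ∈ Subgroup.center (SpecialLinearGroup (Fin 2) K) := fun s =>
      QuotientGroup.eq.1 (DFunLike.congr_fun hg (QuotientGroup.mk s))
    let c : SpecialLinearGroup (Fin 2) K →* Subgroup.center (SpecialLinearGroup (Fin 2) K) :=
      MonoidHom.mk' (fun s => ⟨_, hq' s⟩) fun s t => Subtype.ext (by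
        show (α₀ (s * t))⁻¹ * β (s * t) = (α₀ s)⁻¹ * β s * ((α₀ t)⁻¹ * β t)
        rw [map_mul, map_mul, _root_.mul_inv_rev, mul_assoc, ← mul_assoc _ (β s),
          ← mul_assoc ((α₀ t)⁻¹), Subgroup.mem_center_iff.1 (hq' s), mul_assoc])
    have hc : c.ker = ⊤ := by
      rw [← top_le_iff, ← hperf, commutator_def, Subgroup.commutator_le]
      intro a _ b _
      rw [MonoidHom.mem_ker, map_commutatorElement, commutatorElement_eq_one_iff_mul_comm]
      exact Subtype.ext (Subgroup.mem_center_iff.1 (c b).2 (c a : SpecialLinearGroup (Fin 2) K))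
    intro s
    have : c s = 1 := MonoidHom.mem_ker.1 (hc ▸ Subgroup.mem_top s)
    exact inv_mul_eq_one.1 (congrArg Subtype.val this)
  obtain ⟨τ, hτ⟩ := exists_extend hF K σ₀
  let Tτ : GL (Fin 2) F := Matrix.GeneralLinearGroup.map (τ : F →+* F) Tu
  refine ⟨Tu * Matrix.GeneralLinearGroup.map K.subtype g * Tτ⁻¹, τ, fun A => ?_⟩
  obtain ⟨B, rfl⟩ := φ.surjective A
  have : α (φ B) = φ (α₀ B) := (φ.apply_symm_apply _).symm
  rw [this, heq, hφ, hφ, hφ0, hφ0, CfsgLib.KnownC.slConj_coe, CfsgLib.KnownC.slField_coe]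
  rw [Matrix.map_mul, Matrix.map_mul, Matrix.map_map, _root_.mul_inv_rev, _root_.mul_inv_rev, inv_inv,
    Units.val_mul, Units.val_mul, Units.val_mul, Units.val_mul]
  have hτm : (K.subtype : K → F) ∘ σ₀ = τ ∘ K.subtype := funext fun x => (hτ x).symm
  rw [Matrix.map_mul, Matrix.map_mul, hτm, ← Matrix.map_map]
  show T * (((Matrix.GeneralLinearGroup.map K.subtype g : GL (Fin 2) F) : Matrix _ _ F) *
      (B.1.map K.subtype).map τ *
      (((Matrix.GeneralLinearGroup.map K.subtype g)⁻¹ : GL (Fin 2) F) : Matrix _ _ F)) * _ =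
    (Tu : Matrix _ _ F) * _ * ((Tτ⁻¹ : GL (Fin 2) F) : Matrix _ _ F) *
      ((Tτ : Matrix _ _ F) * (B.1.map K.subtype).map τ * ((Tτ⁻¹ : GL (Fin 2) F) : Matrix _ _ F)) *
      ((Tτ : Matrix _ _ F) * (_ * ((Tu⁻¹ : GL (Fin 2) F) : Matrix _ _ F)))
  simp only [Matrix.mul_assoc, ← Units.val_mul, inv_mul_cancel_left, Units.inv_mul_cancel_left, hTu,
    inv_mul_cancel, Units.val_one, Matrix.one_mul, Matrix.mul_one]
  congr 1
  have cancel : ∀ (G : GL (Fin 2) F) (X : Matrix (Fin 2) (Fin 2) F),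
      ((G * Tτ⁻¹ : GL (Fin 2) F) : Matrix (Fin 2) (Fin 2) F) * ((Tτ : Matrix (Fin 2) (Fin 2) F) * X) =
        (G : Matrix (Fin 2) (Fin 2) F) * X := fun G X => by
    rw [← Matrix.mul_assoc, ← Units.val_mul, inv_mul_cancel_right]
  exact (cancel _ _).symm

/-- An automorphism of `SU₂(q)` preserving the diagonal torus. -/
theorem aut_diag (hq : 4 ≤ q) (α : MulAut (Cfsg.SU 2 F q))
    (hα : ∀ A, mat A 0 1 = 0 → mat (α A) 0 1 = 0) :
    ∃ (x : F) (τ : F ≃+* F), x * qConj hF x = 1 ∧ ∀ A,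
      mat (α A) 0 0 = τ (mat A 0 0) ∧ mat (α A) 0 1 = x * τ (mat A 0 1) := by
  obtain ⟨h, τ, hh⟩ := aut_semilinear hF hq α
  set H := (h : Matrix (Fin 2) (Fin 2) F) with hH
  have hh' : ∀ A, mat (α A) * H = H * (mat A).map τ := fun A => by
    rw [hh, Matrix.mul_assoc, hH, ← Units.val_mul, inv_mul_cancel, Units.val_one, Matrix.mul_one]
  obtain ⟨e, he1, he2⟩ := exists_norm_one_sq_ne hF (by omega)
  have he0 : e ≠ 0 := fun h => by rw [h, zero_mul] at he1; exact zero_ne_one he1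
  have hσe : qConj hF e = e⁻¹ := eq_inv_of_mul_eq_one_right he1
  let D : Cfsg.SU 2 F q := ⟨⟨!![e, 0; 0, e⁻¹], by rw [det_fin_two_of, zero_mul, sub_zero, mul_inv_cancel₀ he0]⟩,
    mem_su_of_mat hF _ (by
      show (!![e, 0; 0, e⁻¹] : Matrix (Fin 2) (Fin 2) F)ᵀ * (!![e, 0; 0, e⁻¹] : Matrix _ _ F).map (qConj hF) = 1
      ext i j; fin_cases i <;> fin_cases j <;> simp [Matrix.mul_apply, Fin.sum_univ_two, hσe, he0])⟩
  let W : Cfsg.SU 2 F q := ⟨⟨!![0, 1; -1, 0], by rw [det_fin_two_of]; norm_num⟩,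
    mem_su_of_mat hF _ (by
      show (!![0, 1; -1, 0] : Matrix (Fin 2) (Fin 2) F)ᵀ * (!![0, 1; -1, 0] : Matrix _ _ F).map (qConj hF) = 1
      ext i j; fin_cases i <;> fin_cases j <;> simp [Matrix.mul_apply, Fin.sum_univ_two])⟩
  have hmD : mat D = !![e, 0; 0, e⁻¹] := rfl
  have hmW : mat W = !![0, 1; -1, 0] := rfl
  have hτ2 : τ e ≠ τ e⁻¹ := fun h => he2 (by
    have := τ.injective h
    rw [pow_two]; nth_rewrite 2 [this]; exact mul_inv_cancel₀ he0)
  have hD01 : mat (α D) 0 1 = 0 := hα D rfl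
  have hD10 : mat (α D) 1 0 = 0 := by rw [(su_two_shape hF _).1, hD01, map_zero, neg_zero]
  have e00 := congrFun (congrFun (hh' D) 0) 0
  have e01 := congrFun (congrFun (hh' D) 0) 1
  have e10 := congrFun (congrFun (hh' D) 1) 0
  have e11 := congrFun (congrFun (hh' D) 1) 1
  simp [Matrix.mul_apply, Fin.sum_univ_two, hD01, hD10, hmD] at e00 e01 e10 e11
  have row0 : H 0 0 = 0 ∨ H 0 1 = 0 := by
    by_contra hc
    push Not at hc
    exact hτ2 ((mul_right_cancel₀ hc.1 (by linear_combination -e00) : τ e = mat (α D) 0 0).trans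
      (mul_right_cancel₀ hc.2 (by rw [map_inv₀]; linear_combination e01)))
  have row1 : H 1 0 = 0 ∨ H 1 1 = 0 := by
    by_contra hc
    push Not at hc
    exact hτ2 ((mul_right_cancel₀ hc.1 (by linear_combination -e10) : τ e = mat (α D) 1 1).trans
      (mul_right_cancel₀ hc.2 (by rw [map_inv₀]; linear_combination e11)))
  have hdet : H 0 0 * H 1 1 - H 0 1 * H 1 0 ≠ 0 := by
    rw [← det_fin_two]; exact (Matrix.isUnits_det_units h).ne_zero
  -- the norm of the scalar
  have fin : ∀ (x : F) (ρ : F ≃+* F),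
      (∀ A, mat (α A) 0 0 = ρ (mat A 0 0) ∧ mat (α A) 0 1 = x * ρ (mat A 0 1)) →
      x * qConj hF x = 1 := fun x ρ hx => by
    have hd : mat (α W) 0 0 * mat (α W) 1 1 - mat (α W) 0 1 * mat (α W) 1 0 = 1 := by
      rw [← det_fin_two]; exact ((α W) : SpecialLinearGroup (Fin 2) F).2
    obtain ⟨s1, s2⟩ := su_two_shape hF (α W)
    rw [s1, s2, (hx W).1, (hx W).2] at hd
    simp [hmW] at hd
    linear_combination hd
  rcases row0 with h00 | h01
  · have h01 : H 0 1 ≠ 0 := fun h01 => hdet (by rw [h00, h01]; ring)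
    have h11 : H 1 1 = 0 := row1.resolve_left fun h10 => hdet (by rw [h00, h10]; ring)
    have h10 : H 1 0 ≠ 0 := fun h10 => hdet (by rw [h00, h10]; ring)
    have hall : ∀ A, mat (α A) 0 0 = τ (qConj hF (mat A 0 0)) ∧
        mat (α A) 0 1 = (-(H 0 1 / H 1 0)) * τ (qConj hF (mat A 0 1)) := fun A => by
      have a00 := congrFun (congrFun (hh' A) 0) 0
      have a01 := congrFun (congrFun (hh' A) 0) 1
      simp [Matrix.mul_apply, Fin.sum_univ_two, h00, h11] at a00 a01
      obtain ⟨s1, s2⟩ := su_two_shape hF A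
      refine ⟨mul_right_cancel₀ h01 ?_, mul_right_cancel₀ h10 ?_⟩
      · rw [← s2]; linear_combination a01
      · have s1' : qConj hF (mat A 0 1) = -mat A 1 0 := by rw [s1, neg_neg]
        rw [s1', map_neg]
        field_simp
        linear_combination a00
    exact ⟨_, (qConj hF).trans τ, fin _ ((qConj hF).trans τ) hall, hall⟩
  · have h00 : H 0 0 ≠ 0 := fun h00 => hdet (by rw [h00, h01]; ring)
    have h10 : H 1 0 = 0 := row1.resolve_right fun h11 => hdet (by rw [h01, h11]; ring)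
    have h11 : H 1 1 ≠ 0 := fun h11 => hdet (by rw [h01, h11]; ring)
    have hall : ∀ A, mat (α A) 0 0 = τ (mat A 0 0) ∧ mat (α A) 0 1 = (H 0 0 / H 1 1) * τ (mat A 0 1) := fun A => by
      have a00 := congrFun (congrFun (hh' A) 0) 0
      have a01 := congrFun (congrFun (hh' A) 0) 1
      simp [Matrix.mul_apply, Fin.sum_univ_two, h01, h10] at a00 a01
      refine ⟨mul_right_cancel₀ h00 ?_, mul_right_cancel₀ h11 ?_⟩
      · linear_combination a00
      · field_simp
        linear_combination a01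
    exact ⟨_, τ, fin _ _ hall, hall⟩

end CfsgLib.Recog.Phan.Norm
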