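import Cfsg.Agent.Lib.Recog.Phan.Defs
import Cfsg.Agent.Lib.Recog.Phan.SUTwoAut

/-!
A weak Phan system gives a compatible family of homomorphisms of the three-coordinate blocks.
-/

set_option autoImplicit false
set_option linter.unusedSectionVars false

namespace CfsgLib.Recog.Phan.Norm

open Matrix CfsgLib.MaxSub CfsgLib.Recog.Phan
open CfsgLib.Pres.SUn (blk blkMat SOn act range_blk act_apply_out blkMat_in blkMat_row blkMat_out)

universe u v
variable {F : Type u} [Field F] [Fintype F] {q n : ℕ} (hF : Fintype.card F = q ^ 2)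

omit [Fintype F] in
theorem mat_left2 (x : Cfsg.SU 2 F q) :
    mat (left2 x) = !![mat x 0 0, mat x 0 1, 0; mat x 1 0, mat x 1 1, 0; 0, 0, 1] := by
  show blkMat (iv 0 (by omega : 0 + 2 ≤ 3)) (mat x) = _
  have e0 : iv 0 (by omega : 0 + 2 ≤ 3) (0 : Fin 2) = (0 : Fin 3) := rfl
  have e1 : iv 0 (by omega : 0 + 2 ≤ 3) (1 : Fin 2) = (1 : Fin 3) := rfl
  have h2 : ¬ ∃ a, iv 0 (by omega : 0 + 2 ≤ 3) a = (2 : Fin 3) := by decide
  ext i j
  fin_cases i <;> fin_cases j
  · simpa [e0] using blkMat_in (iv 0 (by omega : 0 + 2 ≤ 3)) (mat x) 0 0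
  · simpa [e0, e1] using blkMat_in (iv 0 (by omega : 0 + 2 ≤ 3)) (mat x) 0 1
  · simpa [e0] using blkMat_row (iv 0 (by omega : 0 + 2 ≤ 3)) (mat x) 0 h2
  · simpa [e0, e1] using blkMat_in (iv 0 (by omega : 0 + 2 ≤ 3)) (mat x) 1 0
  · simpa [e1] using blkMat_in (iv 0 (by omega : 0 + 2 ≤ 3)) (mat x) 1 1
  · simpa [e1] using blkMat_row (iv 0 (by omega : 0 + 2 ≤ 3)) (mat x) 1 h2
  all_goals simp [blkMat_out _ _ _ h2]

omit [Fintype F] in
theorem mat_right2 (x : Cfsg.SU 2 F q) :
    mat (right2 x) = !![1, 0, 0; 0, mat x 0 0, mat x 0 1; 0, mat x 1 0, mat x 1 1] := by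
  show blkMat (iv 1 (by omega : 1 + 2 ≤ 3)) (mat x) = _
  have e0 : iv 1 (by omega : 1 + 2 ≤ 3) (0 : Fin 2) = (1 : Fin 3) := rfl
  have e1 : iv 1 (by omega : 1 + 2 ≤ 3) (1 : Fin 2) = (2 : Fin 3) := rfl
  have h0 : ¬ ∃ a, iv 1 (by omega : 1 + 2 ≤ 3) a = (0 : Fin 3) := by decide
  ext i j
  fin_cases i <;> fin_cases j
  any_goals simp [blkMat_out _ _ _ h0]
  · simpa [e0] using blkMat_row (iv 1 (by omega : 1 + 2 ≤ 3)) (mat x) 0 h0
  · simpa [e0] using blkMat_in (iv 1 (by omega : 1 + 2 ≤ 3)) (mat x) 0 0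
  · simpa [e0, e1] using blkMat_in (iv 1 (by omega : 1 + 2 ≤ 3)) (mat x) 0 1
  · simpa [e1] using blkMat_row (iv 1 (by omega : 1 + 2 ≤ 3)) (mat x) 1 h0
  · simpa [e0, e1] using blkMat_in (iv 1 (by omega : 1 + 2 ≤ 3)) (mat x) 1 0
  · simpa [e1] using blkMat_in (iv 1 (by omega : 1 + 2 ≤ 3)) (mat x) 1 1

include hF

theorem suBlock_eq_range {k : ℕ} (f : Fin k ↪ Fin n) {s : Set (Fin n)} (hs : ∀ i, i ∈ s ↔ ∃ a, f a = i) :
    Cfsg.suBlock n F q s = (blk (F := F) (q := q) f).range := by
  classical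
  rw [range_blk (CfsgLib.Pres.SUn.q_ne_zero hF)]
  have hmem : ∀ i, i ∉ Finset.univ.map f ↔ i ∉ s := fun i => not_congr (by simp [hs])
  refine le_antisymm ((Subgroup.closure_le _).2 fun A hA i hi => ?_) fun A hA => Subgroup.subset_closure ?_
  · obtain ⟨h1, h2⟩ := hA i ((hmem i).1 hi)
    funext l
    show (mat A *ᵥ Pi.single i 1) l = _
    rw [mulVec_single_one]
    rcases eq_or_ne l i with rfl | hl
    · rw [Pi.single_eq_same]; exact h1
    · rw [Pi.single_eq_of_ne hl]; exact (h2 l hl).2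
  · intro i hi
    have hi' := (hmem i).2 hi
    have hcol : ∀ l, mat A l i = (Pi.single i 1 : Fin n → F) l := fun l => by
      rw [← hA i hi']
      show _ = (mat A *ᵥ Pi.single i 1) l
      rw [mulVec_single_one]; rfl
    refine ⟨?_, fun l hl => ⟨?_, ?_⟩⟩
    · exact (hcol i).trans (Pi.single_eq_same i 1)
    · have := act_apply_out (CfsgLib.Pres.SUn.q_ne_zero hF) hA (Pi.single l 1) hi'
      rw [Pi.single_eq_of_ne hl.symm] at this
      rw [← this]
      show _ = (mat A *ᵥ Pi.single l 1) i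
      rw [mulVec_single_one]; rfl
    · exact (hcol l).trans (Pi.single_eq_of_ne hl 1)

/-- The monomial element of `SU₂`. -/
theorem exists_weyl : ∃ W : Cfsg.SU 2 F q, mat W = !![0, 1; -1, 0] :=
  ⟨⟨⟨!![0, 1; -1, 0], by rw [det_fin_two_of]; norm_num⟩, mem_su_of_mat hF _ (by
    show (!![0, 1; -1, 0] : Matrix (Fin 2) (Fin 2) F)ᵀ * (!![0, 1; -1, 0] : Matrix _ _ F).map (qConj hF) = 1
    ext i j; fin_cases i <;> fin_cases j <;> simp [Matrix.mul_apply, Fin.sum_univ_two])⟩, rfl⟩

/-- The blocks meet the centre trivially. -/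
theorem block_center {x : Cfsg.SU 2 F q}
    (h : left2 x ∈ Subgroup.center (Cfsg.SU 3 F q) ∨ right2 x ∈ Subgroup.center (Cfsg.SU 3 F q)) : x = 1 := by
  obtain ⟨W, hW⟩ := exists_weyl hF
  obtain ⟨s1, s2⟩ := su_two_shape hF x
  have key : mat x 0 0 = 1 ∧ mat x 0 1 = 0 := by
    rcases h with h | h
    · have e := congrArg mat (Subgroup.mem_center_iff.1 h (right2 W))
      rw [mat_mul, mat_mul, mat_left2, mat_right2, hW] at e
      have a1 := congrFun (congrFun e 0) 2
      have a2 := congrFun (congrFun e 1) 2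
      simp [Matrix.mul_apply, Fin.sum_univ_three] at a1 a2
      refine ⟨?_, by first | exact a1 | exact a1.symm⟩
      apply (qConj hF).injective
      rw [← s2, map_one]
      first | exact a2 | exact a2.symm
    · have e := congrArg mat (Subgroup.mem_center_iff.1 h (left2 W))
      rw [mat_mul, mat_mul, mat_right2, mat_left2, hW] at e
      have a1 := congrFun (congrFun e 0) 2
      have a2 := congrFun (congrFun e 0) 1
      simp [Matrix.mul_apply, Fin.sum_univ_three] at a1 a2
      exact ⟨by first | exact a2 | exact a2.symm, by first | exact a1 | exact a1.symm⟩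
  refine mat_ext ?_
  rw [mat_one, Matrix.eta_fin_two (mat x), s1, s2, key.1, key.2, map_one, map_zero, neg_zero, Matrix.one_fin_two]

variable {G : Type v} [Group G]

/-- What is known about a map of a three-coordinate block. -/
structure Good (V A B : Subgroup G) (f : Cfsg.SU 3 F q →* G) : Prop where
  range : f.range = V
  left : (f.comp left2).range = A
  right : (f.comp right2).range = B
  left_inj : Function.Injective (f.comp left2)
  right_inj : Function.Injective (f.comp right2)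

theorem exists_good {V A B : Subgroup G} (h : Cfsg.IsStandardUnitaryPair V A B F q) :
    ∃ f : Cfsg.SU 3 F q →* G, Good V A B f := by
  have hl : Cfsg.suBlock 3 F q {0, 1} = (left2 (F := F) (q := q)).range :=
    suBlock_eq_range hF _ (by decide)
  have hr : Cfsg.suBlock 3 F q {1, 2} = (right2 (F := F) (q := q)).range :=
    suBlock_eq_range hF _ (by decide)
  rw [Cfsg.IsStandardUnitaryPair, hl, hr] at h
  rcases h with ⟨ψ, h1, h2⟩ | ⟨ψ, h1, h2⟩
  · refine ⟨V.subtype.comp ψ.toMonoidHom, ?_, ?_, ?_, ?_, ?_⟩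
    · rw [MonoidHom.range_eq_map, ← Subgroup.map_map, ← MonoidHom.range_eq_map,
        MonoidHom.range_eq_top.2 ψ.surjective, ← MonoidHom.range_eq_map, Subgroup.range_subtype]
    · rw [MonoidHom.range_comp]; exact h1
    · rw [MonoidHom.range_comp]; exact h2
    · exact (V.subtype_injective.comp ψ.injective).comp (CfsgLib.Pres.SUn.blk_injective _)
    · exact (V.subtype_injective.comp ψ.injective).comp (CfsgLib.Pres.SUn.blk_injective _)
  · refine ⟨V.subtype.comp (ψ.toMonoidHom.comp (QuotientGroup.mk' _)), ?_, ?_, ?_, ?_, ?_⟩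
    · rw [MonoidHom.range_eq_map, ← Subgroup.map_map, ← MonoidHom.range_eq_map,
        MonoidHom.range_eq_top.2 (ψ.surjective.comp (QuotientGroup.mk'_surjective _)),
        ← MonoidHom.range_eq_map, Subgroup.range_subtype]
    · rw [MonoidHom.range_comp]; exact h1
    · rw [MonoidHom.range_comp]; exact h2
    · refine (injective_iff_map_eq_one _).2 fun x hx => block_center hF (.inl ?_)
      have : ψ (QuotientGroup.mk (left2 x)) = 1 := V.subtype_injective (hx.trans (map_one _).symm)
      exact (QuotientGroup.eq_one_iff _).1 ((map_eq_one_iff _ ψ.injective).1 this)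
    · refine (injective_iff_map_eq_one _).2 fun x hx => block_center hF (.inr ?_)
      have : ψ (QuotientGroup.mk (right2 x)) = 1 := V.subtype_injective (hx.trans (map_one _).symm)
      exact (QuotientGroup.eq_one_iff _).1 ((map_eq_one_iff _ ψ.injective).1 this)

/-- Twisting by a semilinear diagonal map of `SU₃`. -/
theorem exists_twist (x : F) (hx : x * qConj hF x = 1) (τ : F ≃+* F) :
    ∃ α : Cfsg.SU 3 F q →* Cfsg.SU 3 F q, Function.Bijective α ∧
      ∀ A i j, mat (α A) i j = ![x, 1, 1] i * τ (mat A i j) * (![x, 1, 1] j)⁻¹ := by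
  have hx0 : x ≠ 0 := fun h => by rw [h, zero_mul] at hx; exact zero_ne_one hx
  set d : Fin 3 → F := ![x, 1, 1] with hd
  have hd0 : ∀ i, d i ≠ 0 := fun i => by fin_cases i <;> simp [hd, hx0]
  have hdσ : ∀ i, d i * qConj hF (d i) = 1 := fun i => by fin_cases i <;> simp [hd, hx]
  let m : Matrix (Fin 3) (Fin 3) F → Matrix (Fin 3) (Fin 3) F := fun M =>
    diagonal d * M.map τ * diagonal (fun i => (d i)⁻¹)
  have hmm : ∀ M i j, m M i j = d i * τ (M i j) * (d j)⁻¹ := fun M i j => by
    simp [m, mul_diagonal, diagonal_mul]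
  have hdd : diagonal (fun i => (d i)⁻¹) * diagonal d = (1 : Matrix (Fin 3) (Fin 3) F) := by
    rw [diagonal_mul_diagonal, ← diagonal_one]; congr 1; funext i; exact inv_mul_cancel₀ (hd0 i)
  have hmul : ∀ M N, m (M * N) = m M * m N := fun M N => by
    simp only [m, Matrix.map_mul, Matrix.mul_assoc]
    rw [← Matrix.mul_assoc (diagonal fun i => (d i)⁻¹), hdd, Matrix.one_mul]
  have hdet : ∀ M, (m M).det = τ M.det := fun M => by
    simp only [m, det_mul, det_diagonal]
    rw [show (M.map τ).det = τ M.det from ((τ : F →+* F).map_det M).symm, mul_right_comm,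
      ← Finset.prod_mul_distrib]
    simp [hd0]
  have hsu : ∀ A : Cfsg.SU 3 F q, (m (mat A))ᵀ * (m (mat A)).map (qConj hF) = 1 := fun A => by
    ext i j
    rw [Matrix.mul_apply]
    simp only [Matrix.transpose_apply, Matrix.map_apply, hmm, map_mul, map_inv₀]
    have key : ∀ k, d k * τ (mat A k i) * (d i)⁻¹ * (qConj hF (d k) * qConj hF (τ (mat A k j)) * (qConj hF (d j))⁻¹) =
        (d i)⁻¹ * (qConj hF (d j))⁻¹ * τ (mat A k i * qConj hF (mat A k j)) := fun k => by
      rw [map_mul τ, qConj_comm hF τ]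
      linear_combination (τ (mat A k i) * (d i)⁻¹ * qConj hF (τ (mat A k j)) * (qConj hF (d j))⁻¹) * hdσ k
    rw [Finset.sum_congr rfl fun k _ => key k, ← Finset.mul_sum, ← map_sum]
    have := congrFun (congrFun (mat_unitary hF A) i) j
    rw [Matrix.mul_apply] at this
    simp only [Matrix.transpose_apply, Matrix.map_apply] at this
    rw [this]
    rcases eq_or_ne i j with rfl | hij
    · rw [Matrix.one_apply_eq, map_one, mul_one, ← mul_inv, hdσ, inv_one]
    · rw [Matrix.one_apply_ne hij, map_zero, mul_zero]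
  let f : Cfsg.SU 3 F q → Cfsg.SU 3 F q := fun A =>
    ⟨⟨m (mat A), by rw [hdet, show (mat A).det = 1 from (A : SpecialLinearGroup (Fin 3) F).2, map_one]⟩,
      mem_su_of_mat hF _ (hsu A)⟩
  let α : Cfsg.SU 3 F q →* Cfsg.SU 3 F q := MonoidHom.mk' f fun A B => mat_ext (hmul _ _)
  refine ⟨α, ⟨?_, ?_⟩, fun A i j => hmm _ i j⟩
  all_goals
    have inj : Function.Injective α := fun A B h => mat_ext (Matrix.ext fun i j => by
      have := congrFun (congrFun (congrArg mat h) i) j
      change m (mat A) i j = m (mat B) i j at this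
      rw [hmm, hmm] at this
      exact τ.injective (mul_left_cancel₀ (hd0 i) (mul_right_cancel₀ (inv_ne_zero (hd0 j)) this)))
  · exact inj
  · exact Finite.surjective_of_injective inj

theorem twist_left {x : F} (hx : x * qConj hF x = 1) {ρ : F ≃+* F} {α : Cfsg.SU 3 F q →* Cfsg.SU 3 F q}
    (hαm : ∀ A i j, mat (α A) i j = ![x, 1, 1] i * ρ (mat A i j) * (![x, 1, 1] j)⁻¹)
    (β : MulAut (Cfsg.SU 2 F q))
    (hxρ : ∀ A, mat (β A) 0 0 = ρ (mat A 0 0) ∧ mat (β A) 0 1 = x * ρ (mat A 0 1)) (A : Cfsg.SU 2 F q) :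
    α (left2 A) = left2 (β A) := by
  have hx0 : x ≠ 0 := fun h => by rw [h, zero_mul] at hx; exact zero_ne_one hx
  have hσx : qConj hF x = x⁻¹ := eq_inv_of_mul_eq_one_right hx
  refine mat_ext (Matrix.ext fun i j => ?_)
  obtain ⟨s1, s2⟩ := su_two_shape hF A
  obtain ⟨t1, t2⟩ := su_two_shape hF (β A)
  obtain ⟨r1, r2⟩ := hxρ A
  rw [hαm, mat_left2, mat_left2, t1, t2, r1, r2, s1, s2, map_mul]
  fin_cases i <;> fin_cases j <;> simp [qConj_comm hF ρ, hσx, hx0, mul_comm]

/-- An automorphism sending one regular torus element to a diagonal one preserves the diagonal torus. -/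
theorem diag_preserved (β : MulAut (Cfsg.SU 2 F q)) {d : Cfsg.SU 2 F q} {a : F}
    (hd : mat d = !![a, 0; 0, a⁻¹]) (haa : a ≠ a⁻¹) (hd01 : mat (β d) 0 1 = 0) :
    ∀ x, mat x 0 1 = 0 → mat (β x) 0 1 = 0 := by
  obtain ⟨W, hW⟩ := exists_weyl hF
  intro x hx
  obtain ⟨z1, -⟩ := su_two_shape hF (β d)
  obtain ⟨x1, -⟩ := su_two_shape hF x
  have hne : mat (β d) 0 0 ≠ mat (β d) 1 1 := fun h => by
    have hz : Commute (β d) (β W) := by
      refine mat_ext ?_
      have ez : mat (β d) = (mat (β d) 0 0) • (1 : Matrix (Fin 2) (Fin 2) F) := by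
        conv_lhs => rw [Matrix.eta_fin_two (mat (β d)), z1, hd01, map_zero, neg_zero, ← h]
        ext i j; fin_cases i <;> fin_cases j <;> simp
      rw [mat_mul, mat_mul, ez, Matrix.smul_mul, Matrix.mul_smul, Matrix.one_mul, Matrix.mul_one]
    have hdW : d * W = W * d := β.injective (by rw [map_mul, map_mul]; exact hz.eq)
    have := congrFun (congrFun (congrArg mat hdW) 0) 1
    rw [mat_mul, mat_mul, hd, hW] at this
    simp [Matrix.mul_apply, Fin.sum_univ_two] at this
    exact haa this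
  have hxd : Commute x d := mat_ext (by
    rw [mat_mul, mat_mul, hd, Matrix.eta_fin_two (mat x), x1, hx, map_zero, neg_zero]
    ext i j; fin_cases i <;> fin_cases j <;> simp [Matrix.mul_apply, Fin.sum_univ_two, mul_comm])
  have := congrFun (congrFun (congrArg mat (hxd.map β).eq) 0) 1
  rw [mat_mul, mat_mul] at this
  simp [Matrix.mul_apply, Fin.sum_univ_two, hd01] at this
  by_contra h0
  refine hne (mul_right_cancel₀ h0 ?_).symm
  linear_combination this

set_option maxHeartbeats 1000000 in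
/-- The inductive step: gluing the next block. -/
theorem exists_glue (hq : 4 ≤ q) {V A B V' B' : Subgroup G} {f g : Cfsg.SU 3 F q →* G}
    (hf : Good V A B f) (hg : Good V' B B' g) (hcomm : ∀ x ∈ A, ∀ y ∈ B', x * y = y * x) :
    ∃ g' : Cfsg.SU 3 F q →* G, Good V' B B' g' ∧ ∀ x, f (right2 x) = g' (left2 x) := by
  let β : MulAut (Cfsg.SU 2 F q) := (MonoidHom.ofInjective hf.right_inj).trans
    ((MulEquiv.subgroupCongr (hf.right.trans hg.left.symm)).trans (MonoidHom.ofInjective hg.left_inj).symm)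
  have hβ : ∀ x, g (left2 (β x)) = f (right2 x) := fun x => by
    have := congrArg Subtype.val ((MonoidHom.ofInjective hg.left_inj).apply_symm_apply
      (MulEquiv.subgroupCongr (hf.right.trans hg.left.symm) (MonoidHom.ofInjective hf.right_inj x)))
    exact this
  obtain ⟨a, ha1, ha2⟩ := exists_norm_one_sq_ne hF (by omega)
  have ha0 : a ≠ 0 := fun h => by rw [h, zero_mul] at ha1; exact zero_ne_one ha1
  have hσa : qConj hF a = a⁻¹ := eq_inv_of_mul_eq_one_right ha1
  have haa : a ≠ a⁻¹ := fun h => ha2 (by rw [pow_two]; nth_rewrite 2 [h]; exact mul_inv_cancel₀ ha0)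
  let d : Cfsg.SU 2 F q := ⟨⟨!![a, 0; 0, a⁻¹], by rw [det_fin_two_of, zero_mul, sub_zero, mul_inv_cancel₀ ha0]⟩,
    mem_su_of_mat hF _ (by
      show (!![a, 0; 0, a⁻¹] : Matrix (Fin 2) (Fin 2) F)ᵀ * (!![a, 0; 0, a⁻¹] : Matrix _ _ F).map (qConj hF) = 1
      ext i j; fin_cases i <;> fin_cases j <;> simp [Matrix.mul_apply, Fin.sum_univ_two, hσa, ha0])⟩
  have hd : mat d = !![a, 0; 0, a⁻¹] := rfl
  obtain ⟨W, hW⟩ := exists_weyl hF
  -- the common automorphism induced by the two neighbouring tori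
  let c : Cfsg.SU 2 F q → Cfsg.SU 2 F q := fun x =>
    ⟨⟨!![mat x 0 0, a⁻¹ * mat x 0 1; a * mat x 1 0, mat x 1 1], by
      rw [det_fin_two_of, show a⁻¹ * mat x 0 1 * (a * mat x 1 0) = mat x 0 1 * mat x 1 0 by field_simp,
        ← det_fin_two]
      exact (x : SpecialLinearGroup (Fin 2) F).2⟩, mem_su_of_mat hF _ (by
      obtain ⟨s1, s2⟩ := su_two_shape hF x
      have h := mat_unitary hF x
      have h00 := congrFun (congrFun h 0) 0
      have h01 := congrFun (congrFun h 0) 1
      have h10 := congrFun (congrFun h 1) 0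
      have h11 := congrFun (congrFun h 1) 1
      simp [Matrix.mul_apply, Fin.sum_univ_two] at h00 h01 h10 h11
      show (!![mat x 0 0, a⁻¹ * mat x 0 1; a * mat x 1 0, mat x 1 1] : Matrix (Fin 2) (Fin 2) F)ᵀ *
        (!![mat x 0 0, a⁻¹ * mat x 0 1; a * mat x 1 0, mat x 1 1] : Matrix _ _ F).map (qConj hF) = 1
      ext i j; fin_cases i <;> fin_cases j <;>
        simp [Matrix.mul_apply, Fin.sum_univ_two, hσa] <;> field_simp <;>
        first | linear_combination h00 | linear_combination h11 | linear_combination h01 |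
          linear_combination h10 | linear_combination a * h01 | linear_combination a * h10)⟩
  have hc : ∀ x, mat (c x) = !![mat x 0 0, a⁻¹ * mat x 0 1; a * mat x 1 0, mat x 1 1] := fun x => rfl
  have hcf : ∀ x, left2 d * right2 x = right2 (c x) * left2 d := fun x => mat_ext (by
    rw [mat_mul, mat_mul, mat_left2, mat_right2, mat_right2, hc, hd]
    ext i j; fin_cases i <;> fin_cases j <;> simp [Matrix.mul_apply, Fin.sum_univ_three] <;> field_simp)
  have hcg : ∀ x, right2 d * left2 x = left2 (c x) * right2 d := fun x => mat_ext (by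
    rw [mat_mul, mat_mul, mat_left2, mat_right2, mat_left2, hc, hd]
    ext i j; fin_cases i <;> fin_cases j <;> simp [Matrix.mul_apply, Fin.sum_univ_three] <;> field_simp)
  have hcd : c d = d := mat_ext (by rw [hc, hd]; simp)
  have hd01 : mat (β d) 0 1 = 0 := by
    -- the image of the torus is normalised
    set z := β d with hz
    have hs : ∀ w, f (left2 d) * w * (f (left2 d))⁻¹ = w → Commute (f (left2 d)) w := fun w h => by
      rw [mul_inv_eq_iff_eq_mul] at h; exact h
    have hfd : f (left2 d) ∈ A := hf.left ▸ ⟨d, rfl⟩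
    have hgd : g (right2 d) ∈ B' := hg.right ▸ ⟨d, rfl⟩
    have hsr : Commute (f (left2 d)) (g (right2 d)) := hcomm _ hfd _ hgd
    have hsz : Commute (f (left2 d)) (g (left2 z)) := by
      rw [hz, hβ]
      show _ * _ = _ * _
      rw [← map_mul, ← map_mul, hcf, hcd]
    have hscz : Commute (f (left2 d)) (g (left2 (c z))) := by
      have e : g (left2 (c z)) = g (right2 d) * g (left2 z) * (g (right2 d))⁻¹ := by
        rw [← map_mul, hcg, map_mul, mul_inv_cancel_right]
      rw [e]
      exact (hsr.mul_right hsz).mul_right hsr.inv_right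
    obtain ⟨d', hd'⟩ := β.surjective (c z)
    have hfix : c d' = d' := by
      refine hf.right_inj ?_
      show f (right2 (c d')) = f (right2 d')
      have : f (left2 d) * f (right2 d') = f (right2 d') * f (left2 d) := by
        rw [← hβ d', hd']; exact hscz.eq
      rw [← map_mul, hcf, map_mul] at this
      exact mul_right_cancel this
    have hd'01 : mat d' 0 1 = 0 := by
      have := congrFun (congrFun (congrArg mat hfix) 0) 1
      rw [hc] at this
      simp at this
      by_contra h0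
      exact haa (by
        have h1 : a⁻¹ = 1 := mul_right_cancel₀ h0 (by rw [one_mul]; exact this)
        rw [h1, ← inv_inv a, h1, inv_one])
    have hcz : Commute (c z) z := by
      rw [← hd', hz]
      refine Commute.map (mat_ext ?_ : Commute d' d) β
      obtain ⟨t1, -⟩ := su_two_shape hF d'
      rw [mat_mul, mat_mul, hd, Matrix.eta_fin_two (mat d'), t1, hd'01, map_zero, neg_zero]
      ext i j; fin_cases i <;> fin_cases j <;> simp [Matrix.mul_apply, Fin.sum_univ_two, mul_comm]
    have e := congrFun (congrFun (congrArg mat hcz.eq) 0) 0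
    rw [mat_mul, mat_mul, hc] at e
    simp [Matrix.mul_apply, Fin.sum_univ_two] at e
    by_contra h0
    have h10 : mat z 1 0 ≠ 0 := by
      rw [(su_two_shape hF z).1]; exact neg_ne_zero.2 ((map_ne_zero _).2 h0)
    refine haa (mul_right_cancel₀ (mul_ne_zero h0 h10) ?_).symm
    linear_combination e
  have hdiag := diag_preserved hF β hd haa hd01
  obtain ⟨x, ρ, hx, hxρ⟩ := aut_diag hF hq β hdiag
  obtain ⟨α, hα, hαm⟩ := exists_twist hF x hx ρ
  have hx0 : x ≠ 0 := fun h => by rw [h, zero_mul] at hx; exact zero_ne_one hx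
  have hσx : qConj hF x = x⁻¹ := eq_inv_of_mul_eq_one_right hx
  have hαl : ∀ A, α (left2 A) = left2 (β A) := twist_left hF hx hαm β hxρ
  have hρu : ∀ A : Cfsg.SU 2 F q, ∃ A' : Cfsg.SU 2 F q, α (right2 A) = right2 A' := fun A => by
    refine ⟨⟨⟨(mat A).map ρ, by
      rw [show ((mat A).map ρ).det = ρ (mat A).det from ((ρ : F →+* F).map_det _).symm,
        show (mat A).det = 1 from (A : SpecialLinearGroup (Fin 2) F).2, map_one]⟩,
      mem_su_of_mat hF _ ?_⟩, mat_ext (Matrix.ext fun i j => ?_)⟩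
    · show ((mat A).map ρ)ᵀ * ((mat A).map ρ).map (qConj hF) = 1
      rw [← Matrix.transpose_map, Matrix.map_map, show (qConj hF : F → F) ∘ ρ = ρ ∘ qConj hF from
        funext fun z => (qConj_comm hF ρ z).symm, ← Matrix.map_map, ← Matrix.map_mul, mat_unitary hF A,
        Matrix.map_one ρ (map_zero ρ) (map_one ρ)]
    · rw [hαm, mat_right2, mat_right2]
      show _ = !![1, 0, 0; 0, (mat A).map ρ 0 0, (mat A).map ρ 0 1; 0, (mat A).map ρ 1 0, (mat A).map ρ 1 1] i j
      fin_cases i <;> fin_cases j <;> simp [hx0]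
  choose Aρ hAρ using hρu
  refine ⟨g.comp α, ⟨?_, ?_, ?_, ?_, ?_⟩, fun A => ?_⟩
  · rw [MonoidHom.range_comp, MonoidHom.range_eq_top.2 hα.2, ← MonoidHom.range_eq_map, hg.range]
  · rw [← hg.left]
    ext z
    simp only [MonoidHom.mem_range, MonoidHom.comp_apply, hαl]
    exact ⟨fun ⟨w, hw⟩ => ⟨β w, hw⟩, fun ⟨w, hw⟩ => ⟨β.symm w, by rwa [β.apply_symm_apply]⟩⟩
  · have hinj : Function.Injective (fun A => (Aρ A)) := fun A A' h => by
      have := congrArg right2 h
      rw [← hAρ A, ← hAρ A'] at this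
      exact CfsgLib.Pres.SUn.blk_injective _ (hα.1 this)
    rw [← hg.right]
    ext z
    simp only [MonoidHom.mem_range, MonoidHom.comp_apply]
    constructor
    · rintro ⟨w, rfl⟩; exact ⟨(Aρ w), by rw [hAρ w]⟩
    · rintro ⟨w, rfl⟩
      obtain ⟨w0, hw0⟩ := Finite.surjective_of_injective hinj w
      exact ⟨w0, by rw [hAρ w0]; exact congrArg (fun t => g (right2 t)) hw0⟩
  · intro A A' h
    simp only [MonoidHom.comp_apply, hαl] at h
    exact β.injective (hg.left_inj h)
  · intro A A' h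
    simp only [MonoidHom.comp_apply, hAρ A, hAρ A'] at h
    have := hg.right_inj h
    exact CfsgLib.Pres.SUn.blk_injective _ (hα.1 (by rw [hAρ A, hAρ A', this]))
  · rw [MonoidHom.comp_apply, hαl, hβ]

/-- A weak Phan system gives a system of compatible maps. -/
theorem exists_sys (hn : 2 ≤ n) (hq : 3 < q) (U : Fin n → Subgroup G) (V : Fin n → Fin n → Subgroup G)
    (h1 : ∀ i j : Fin n, (i : ℕ) + 2 ≤ j → ∀ x ∈ U i, ∀ y ∈ U j, x * y = y * x)
    (h2 : ∀ i j : Fin n, (i : ℕ) + 1 = j → Cfsg.IsStandardUnitaryPair (V i j) (U i) (U j) F q) :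
    ∃ S : Sys (n + 1) G F q,
      (∀ (i : ℕ) (h : i + 3 ≤ n + 1),
        (S.phi i h).range = V ⟨i, by omega⟩ ⟨i + 1, by omega⟩) ∧
      ∀ (i : ℕ) (h : i + 2 ≤ n + 1), (S.pair i h).range = U ⟨i, by omega⟩ := by
  classical
  let P : ℕ → (Cfsg.SU 3 F q →* G) → Prop := fun i f => ∀ h : i + 2 ≤ n,
    Good (V ⟨i, by omega⟩ ⟨i + 1, by omega⟩) (U ⟨i, by omega⟩) (U ⟨i + 1, by omega⟩) f
  have hex : ∀ i, ∃ f, P i f := fun i => by
    by_cases h : i + 2 ≤ n
    · obtain ⟨f, hf⟩ := exists_good hF (h2 ⟨i, by omega⟩ ⟨i + 1, by omega⟩ rfl)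
      exact ⟨f, fun _ => hf⟩
    · exact ⟨1, fun h' => absurd h' h⟩
  have main : ∀ k, ∃ φ : ℕ → (Cfsg.SU 3 F q →* G), (∀ i, P i (φ i)) ∧
      ∀ i, i < k → i + 3 ≤ n → ∀ x, φ i (right2 x) = φ (i + 1) (left2 x) := by
    intro k
    induction k with
    | zero => exact ⟨fun i => (hex i).choose, fun i => (hex i).choose_spec, fun i hi => absurd hi (by omega)⟩
    | succ k ih =>
      obtain ⟨φ, hφ, hgl⟩ := ih
      by_cases hk : k + 3 ≤ n
      · obtain ⟨g', hg', hx⟩ := exists_glue hF (by omega) (hφ k (by omega)) (hφ (k + 1) (by omega))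
          (h1 ⟨k, by omega⟩ ⟨k + 1 + 1, by omega⟩ (by show k + 2 ≤ k + 1 + 1; omega))
        refine ⟨Function.update φ (k + 1) g', fun i => ?_, fun i hi hin x => ?_⟩
        · rcases eq_or_ne i (k + 1) with rfl | hne
          · rw [Function.update_self]; exact fun _ => hg'
          · rw [Function.update_of_ne hne]; exact hφ i
        · rw [Function.update_of_ne (by omega : i ≠ k + 1)]
          rcases eq_or_ne i k with rfl | hne
          · rw [Function.update_self]; exact hx x
          · rw [Function.update_of_ne (by omega : i + 1 ≠ k + 1)]; exact hgl i (by omega) hin x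
      · refine ⟨φ, hφ, fun i hi hin x => hgl i ?_ hin x⟩
        omega
  obtain ⟨φ, hφ, hgl⟩ := main n
  let pr : ∀ i : ℕ, i + 2 ≤ n + 1 → Cfsg.SU 2 F q →* G := fun i _ =>
    if i + 2 ≤ n then (φ i).comp left2 else (φ (i - 1)).comp right2
  have hpr : ∀ (i : ℕ) (h : i + 2 ≤ n + 1), (pr i h).range = U ⟨i, by omega⟩ := fun i h => by
    show (if i + 2 ≤ n then (φ i).comp left2 else (φ (i - 1)).comp right2).range = _
    split_ifs with hi
    · exact (hφ i hi).left
    · rw [(hφ (i - 1) (by omega)).right]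
      congr 1; ext; show i - 1 + 1 = i; omega
  refine ⟨⟨fun i _ => φ i, pr, fun i h x => ?_, fun i h x => ?_, fun i j hi hj hij x y => ?_⟩,
    fun i h => (hφ i (by omega)).range, hpr⟩
  · show _ = (if i + 2 ≤ n then (φ i).comp left2 else (φ (i - 1)).comp right2) x
    rw [if_pos (by omega)]; rfl
  · show _ = (if i + 1 + 2 ≤ n then (φ (i + 1)).comp left2 else (φ (i + 1 - 1)).comp right2) x
    split_ifs with hi
    · exact hgl i (by omega) (by omega) x
    · rfl
  · refine h1 ⟨i, by omega⟩ ⟨j, by omega⟩ hij _ ?_ _ ?_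
    · rw [← hpr i hi]; exact ⟨x, rfl⟩
    · rw [← hpr j hj]; exact ⟨y, rfl⟩

end CfsgLib.Recog.Phan.Norm
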