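import Cfsg.Agent.Lib.Recog.Phan.Normalise
import Cfsg.Agent.Lib.MaxSub.SuThree.Symp
import Cfsg.Agent.S0281

/-!
Two subgroups `SU₂(q)` generating `SU₃(q)` with commuting tori of order `q + 1` form a standard pair.
-/

set_option autoImplicit false
set_option linter.unusedSectionVars false

namespace CfsgLib.Recog.Phan.Norm

open Matrix CfsgLib.MaxSub CfsgLib.Recog.Phan
open CfsgLib.Pres.SUn (blk SOn act range_blk act_mul act_one act_smul act_inv_act act_act_inv act_herm act_inj su_trans herm_fixed exists_norm)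

universe u v
variable {F : Type u} [Field F] [Fintype F] {q : ℕ} (hF : Fintype.card F = q ^ 2)

omit [Fintype F] in
theorem act_eq (A : Cfsg.SU 3 F q) (x : Fin 3 → F) : act A x = mat A *ᵥ x := rfl

/-- A fixed space of codimension at most one gives a transvection. -/
theorem exists_tv_of_ker (t : Cfsg.SU 3 F q)
    (h : 2 ≤ Module.finrank F (LinearMap.ker (Matrix.mulVecLin (mat t - 1)))) :
    ∃ a φ : Fin 3 → F, mat t = tvMat a φ ∧ φ ⬝ᵥ a = 0 := by
  classical
  set N := mat t - 1 with hN
  have hr := LinearMap.finrank_range_add_finrank_ker (Matrix.mulVecLin N)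
  rw [Module.finrank_fin_fun] at hr
  have hle : Module.finrank F (LinearMap.range (Matrix.mulVecLin N)) ≤ 1 := by omega
  obtain ⟨⟨a, haR⟩, ha⟩ := finrank_le_one_iff.1 hle
  have hcol : ∀ j, ∃ c : F, c • a = N *ᵥ Pi.single j 1 := fun j => by
    obtain ⟨c, hc⟩ := ha ⟨N *ᵥ Pi.single j 1, ⟨_, rfl⟩⟩
    exact ⟨c, congrArg Subtype.val hc⟩
  choose φ hφ using hcol
  have ht : mat t = tvMat a φ := by
    rw [tvMat, ← sub_eq_iff_eq_add']
    ext i j
    have := congrFun (hφ j) i
    rw [mulVec_single_one] at this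
    simp only [Pi.smul_apply, smul_eq_mul] at this
    rw [vecMulVec_apply, mul_comm]
    exact this.symm
  refine ⟨a, φ, ht, ?_⟩
  have hd : (mat t).det = 1 := (t : SpecialLinearGroup (Fin 3) F).2
  rw [ht, det_fin_three] at hd
  simp [tvMat, vecMulVec_apply, Matrix.one_apply] at hd
  simp only [dotProduct, Fin.sum_univ_three]
  linear_combination hd

include hF

/-- An involution in characteristic two is a transvection with isotropic centre. -/
theorem involution_even (h2 : (2 : F) = 0) {t : Cfsg.SU 3 F q} (ht : t * t = 1) (ht1 : t ≠ 1) :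
    ∃ (z : Fin 3 → F) (c : F), z ≠ 0 ∧ c ≠ 0 ∧ Cfsg.hermForm 3 F q z z = 0 ∧
      ∀ x, act t x = x + (c * Cfsg.hermForm 3 F q x z) • z := by
  have hN : (mat t - 1) * (mat t - 1) = 0 := by
    rw [Matrix.sub_mul, Matrix.mul_sub, Matrix.mul_one, Matrix.one_mul, ← mat_mul, ht, mat_one]
    ext i j
    simp only [Matrix.sub_apply, Matrix.zero_apply]
    linear_combination ((1 : Matrix (Fin 3) (Fin 3) F) i j - mat t i j) * h2
  have hk : LinearMap.range (Matrix.mulVecLin (mat t - 1)) ≤ LinearMap.ker (Matrix.mulVecLin (mat t - 1)) := by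
    rintro _ ⟨x, rfl⟩
    rw [LinearMap.mem_ker, Matrix.mulVecLin_apply, Matrix.mulVecLin_apply, Matrix.mulVec_mulVec, hN,
      Matrix.zero_mulVec]
  have hr := LinearMap.finrank_range_add_finrank_ker (Matrix.mulVecLin (mat t - 1))
  rw [Module.finrank_fin_fun] at hr
  have := Submodule.finrank_mono hk
  obtain ⟨a, φ, hm, hφa⟩ := exists_tv_of_ker t (by omega)
  have ha : a ≠ 0 := fun h => ht1 (mat_ext (by rw [hm, h, mat_one]; exact tvMat_zero_left _))
  have hφ : φ ≠ 0 := fun h => ht1 (mat_ext (by rw [hm, h, mat_one, tvMat]; simp))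
  have hf := isUnitaryForm_hermForm hF 3
  have hts : ∀ x, act t x = x + (φ ⬝ᵥ x) • a := fun x => by rw [act_eq, hm, tvMat_mulVec]
  have key : ∀ x y, (φ ⬝ᵥ x) * Cfsg.hermForm 3 F q a y + qConj hF (φ ⬝ᵥ y) * Cfsg.hermForm 3 F q x a +
      (φ ⬝ᵥ x) * qConj hF (φ ⬝ᵥ y) * Cfsg.hermForm 3 F q a a = 0 := fun x y => by
    have := act_herm t x y
    rw [hts, hts, hf.add_left, hf.smul_left, herm_add_right hf, herm_add_right hf, herm_smul_right hf,
      herm_smul_right hf] at this
    linear_combination this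
  obtain ⟨i, hi⟩ := Function.ne_iff.1 hφ
  set x0 : Fin 3 → F := Pi.single i (φ i)⁻¹ with hx0d
  have hx0 : φ ⬝ᵥ x0 = 1 := by rw [hx0d, dotProduct_single, mul_inv_cancel₀ hi]
  set k : F := Cfsg.hermForm 3 F q a x0 + Cfsg.hermForm 3 F q a a with hk
  have hxa : ∀ x, Cfsg.hermForm 3 F q x a = -k * (φ ⬝ᵥ x) := fun x => by
    have := key x x0
    rw [hx0, map_one] at this
    linear_combination this - (φ ⬝ᵥ x) * hk
  have haa : Cfsg.hermForm 3 F q a a = 0 := by rw [hxa a, hφa, mul_zero]
  have hk0 : k ≠ 0 := fun e => by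
    obtain ⟨x, hx⟩ := (hf.nondegenerate a ha).1
    exact hx (by rw [hxa x, e, neg_zero, zero_mul])
  refine ⟨a, (-k)⁻¹, ha, inv_ne_zero (neg_ne_zero.2 hk0), haa, fun x => ?_⟩
  rw [hts, hxa, ← mul_assoc, inv_mul_cancel₀ (neg_ne_zero.2 hk0), one_mul]

/-- Two commuting transvections have orthogonal centres. -/
theorem centre_orth {t t' : Cfsg.SU 3 F q} {z z' : Fin 3 → F} {c c' : F} (hc : c ≠ 0) (hc' : c' ≠ 0)
    (hz0 : z ≠ 0) (hz' : z' ≠ 0) (hz : Cfsg.hermForm 3 F q z z = 0)
    (ht : ∀ x, act t x = x + (c * Cfsg.hermForm 3 F q x z) • z)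
    (ht' : ∀ x, act t' x = x + (c' * Cfsg.hermForm 3 F q x z') • z')
    (hcomm : t * t' = t' * t) : Cfsg.hermForm 3 F q z z' = 0 := by
  have hf := isUnitaryForm_hermForm hF 3
  have e : act t (act t' z) = act t' z := by
    rw [← act_mul, hcomm, act_mul, ht z, hz, mul_zero, zero_smul, add_zero]
  rw [ht (act t' z), add_eq_left, smul_eq_zero, mul_eq_zero] at e
  have e' := (e.resolve_right hz0).resolve_left hc
  rw [ht', hf.add_left, hf.smul_left, hz, zero_add, mul_assoc, mul_eq_zero] at e'
  rcases mul_eq_zero.1 (e'.resolve_left hc') with h | h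
  · exact h
  · rw [hf.herm, h, map_zero]

omit hF in
theorem exists_field (hF : Fintype.card F = q ^ 2) :
    ∃ (K : Type) (_ : Field K) (_ : Fintype K), Fintype.card K = q := by
  obtain ⟨p, hp⟩ := CharP.exists F
  obtain ⟨N, hpp, hN⟩ := FiniteField.card F p
  have := Fact.mk hpp
  obtain ⟨k, -, hk⟩ := (Nat.dvd_prime_pow hpp).1
    (show q ∣ p ^ (N : ℕ) by rw [← hN, hF, sq]; exact dvd_mul_right q q)
  have hk0 : k ≠ 0 := by
    rintro rfl
    have := Fintype.one_lt_card (α := F)
    rw [hF, hk] at this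
    simp at this
  let _ : Fintype (GaloisField p k) := Fintype.ofFinite _
  refine ⟨GaloisField p k, inferInstance, inferInstance, ?_⟩
  rw [Fintype.card_eq_nat_card, GaloisField.card p k hk0, hk]

/-- `SU₂(q)` is perfect. -/
theorem su_two_commutator (hq : 4 ≤ q) : commutator (Cfsg.SU 2 F q) = ⊤ := by
  obtain ⟨K, _, _, hK⟩ : ∃ (K : Type) (_ : Field K) (_ : Fintype K), Fintype.card K = q := exists_field hF
  obtain ⟨e⟩ := Cfsg.Agent.S0281.result (K := K) hF hK
  obtain ⟨g, hg⟩ := IsCyclic.exists_generator (α := Kˣ)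
  have hord : orderOf g = q - 1 := by
    rw [orderOf_eq_card_of_forall_mem_zpowers hg, Nat.card_units, Nat.card_eq_fintype_card, hK]
  have hperf : commutator (SpecialLinearGroup (Fin 2) K) = ⊤ := SL2.commutator_eq_top (a := (g : K)) g.ne_zero
    fun h => by
      have := Nat.le_of_dvd two_pos (hord ▸ orderOf_dvd_of_pow_eq_one (Units.ext (by simpa using h)))
      omega
  rw [← top_le_iff]
  intro x _
  have : e x ∈ commutator (SpecialLinearGroup (Fin 2) K) := hperf ▸ Subgroup.mem_top _
  have h := Subgroup.mem_map_of_mem e.symm.toMonoidHom this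
  rw [commutator_def, Subgroup.map_commutator] at h
  rw [commutator_def]
  have := Subgroup.commutator_mono le_top le_top h
  simpa using this

omit [Fintype F] hF in
theorem mem_left2 (hq0 : q ≠ 0) {g : Cfsg.SU 3 F q} :
    g ∈ (left2 (F := F) (q := q)).range ↔ act g (Pi.single 2 1) = Pi.single 2 1 := by
  rw [range_blk hq0]
  constructor
  · exact fun h => h 2 (by decide)
  · intro h i hi
    obtain rfl : i = 2 := by revert hi; revert i; decide
    exact h

omit [Fintype F] hF in
theorem mem_right2 (hq0 : q ≠ 0) {g : Cfsg.SU 3 F q} :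
    g ∈ (right2 (F := F) (q := q)).range ↔ act g (Pi.single 0 1) = Pi.single 0 1 := by
  rw [range_blk hq0]
  constructor
  · exact fun h => h 0 (by decide)
  · intro h i hi
    obtain rfl : i = 0 := by revert hi; revert i; decide
    exact h

omit [Fintype F] hF in
theorem act_inv_of {g : Cfsg.SU 3 F q} {x y : Fin 3 → F} (h : act g x = y) : act g⁻¹ y = x := by
  rw [← h, act_inv_act]

set_option maxHeartbeats 800000 in
/-- A copy of `SU₂(q)` in `SU₃(q)` is a point stabiliser. -/
theorem exists_point (hq : 4 ≤ q) (A : Subgroup (Cfsg.SU 3 F q)) (e : Cfsg.SU 2 F q ≃* A) :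
    ∃ g : Cfsg.SU 3 F q, ∀ h, h ∈ A ↔ g⁻¹ * h * g ∈ (left2 (F := F) (q := q)).range := by
  classical
  have hf := isUnitaryForm_hermForm hF 3
  have hq0 : q ≠ 0 := CfsgLib.Pres.SUn.q_ne_zero hF
  suffices h : ∃ a : Fin 3 → F, Cfsg.hermForm 3 F q a a ≠ 0 ∧ ∀ h ∈ A, act h a = a by
    obtain ⟨a, haa, ha⟩ := h
    obtain ⟨t, ht⟩ := exists_norm hF (a := (Cfsg.hermForm 3 F q a a)⁻¹) (by rw [inv_pow, herm_fixed hF])
    have ht0 : t ≠ 0 := fun h => by rw [h, zero_mul] at ht; exact inv_ne_zero haa ht.symm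
    have hta : Cfsg.hermForm 3 F q (t • a) (t • a) = 1 := by
      rw [hf.smul_left, herm_smul_right hf, qConj_apply hF, ← mul_assoc, ht, inv_mul_cancel₀ haa]
    have h2 : Cfsg.hermForm 3 F q (Pi.single 2 1 : Fin 3 → F) (Pi.single 2 1) = 1 := by
      rw [CfsgLib.Pres.SUn.herm_single_right hq0, Pi.single_eq_same]
    have hta0 : t • a ≠ 0 := fun h => by rw [h, herm_zero_left hf] at hta; exact zero_ne_one hta
    obtain ⟨g, hg⟩ := su_trans hF (k := 3) le_rfl (x := Pi.single 2 1) (y := t • a)
      (fun h => one_ne_zero (α := F) (by simpa using congrFun h 2)) hta0 (h2.trans hta.symm)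
    refine ⟨g, ?_⟩
    have hle : ∀ h ∈ A, g⁻¹ * h * g ∈ (left2 (F := F) (q := q)).range := fun h hh => by
      rw [mem_left2 hq0, act_mul, act_mul, hg, act_smul h, ha h hh]
      exact act_inv_of hg
    let φ : A →* (left2 (F := F) (q := q)).range :=
      MonoidHom.codRestrict ((MulAut.conj g⁻¹).toMonoidHom.comp A.subtype) _ fun h => by
        simpa using hle h h.2
    have hinj : Function.Injective φ := fun x y h => by
      have := congrArg Subtype.val h
      simpa [φ] using this
    have hb : Function.Bijective φ := (Nat.bijective_iff_injective_and_card φ).2 ⟨hinj, by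
      rw [← Nat.card_congr e.toEquiv,
        Nat.card_congr (MonoidHom.ofInjective (CfsgLib.Pres.SUn.blk_injective _)).toEquiv]⟩
    refine fun h => ⟨hle h, fun hh => ?_⟩
    obtain ⟨⟨y, hy⟩, hxy⟩ := hb.2 ⟨_, hh⟩
    have := congrArg Subtype.val hxy
    simp [φ] at this
    rwa [← this]
  by_cases h2 : (2 : F) = 0
  · -- characteristic two
    obtain ⟨K, _, _, hK⟩ := exists_field hF
    obtain ⟨e₀⟩ := Cfsg.Agent.S0281.result (K := K) hF hK
    have hK2 : (2 : K) = 0 := by
      obtain ⟨p, hp⟩ := CharP.exists F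
      obtain ⟨N, hpp, hN⟩ := FiniteField.card F p
      obtain ⟨p', hp'⟩ := CharP.exists K
      obtain ⟨N', hpp', hN'⟩ := FiniteField.card K p'
      have hp2 : p = 2 := (Nat.prime_dvd_prime_iff_eq hpp Nat.prime_two).1
        ((CharP.cast_eq_zero_iff F p 2).1 (by exact_mod_cast h2))
      have hd : p' ∣ p ^ (N : ℕ) := by
        rw [← hN, hF, ← hK, hN']; exact dvd_pow (dvd_pow_self p' N'.pos.ne') two_ne_zero
      have hp'2 : p' = 2 := by
        have := (Nat.prime_dvd_prime_iff_eq hpp' hpp).1 (hpp'.dvd_of_dvd_pow hd)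
        omega
      exact_mod_cast (CharP.cast_eq_zero_iff K p' 2).2 (hp'2 ▸ dvd_rfl)
    let ι : SpecialLinearGroup (Fin 2) K →* Cfsg.SU 3 F q := A.subtype.comp (e₀.symm.trans e).toMonoidHom
    have hι : Function.Injective ι := A.subtype_injective.comp (e₀.symm.trans e).injective
    have hιA : ∀ h ∈ A, ∃ x, ι x = h := fun h hh =>
      ⟨(e₀.symm.trans e).symm ⟨h, hh⟩, congrArg Subtype.val ((e₀.symm.trans e).apply_symm_apply ⟨h, hh⟩)⟩
    have h01 : (0 : Fin 2) ≠ 1 := by decide
    have h10 : (1 : Fin 2) ≠ 0 := by decide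
    have hTT : ∀ {i j : Fin 2} (hij : i ≠ j) (a b : K), SpecialLinearGroup.transvection hij a *
        SpecialLinearGroup.transvection hij b = SpecialLinearGroup.transvection hij (a + b) := fun {i j} hij a b => by
      refine Subtype.ext ?_
      show Matrix.transvection i j a * Matrix.transvection i j b = Matrix.transvection i j (a + b)
      exact Matrix.transvection_mul_transvection_same i j hij a b
    have inv2 : ∀ {i j : Fin 2} (hij : i ≠ j) (k : K), k ≠ 0 →
        ι (SpecialLinearGroup.transvection hij k) * ι (SpecialLinearGroup.transvection hij k) = 1 ∧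
          ι (SpecialLinearGroup.transvection hij k) ≠ 1 := by
      intro i j hij k hk
      refine ⟨?_, fun h => hk ?_⟩
      · rw [← map_mul, hTT, show k + k = 0 by
          rw [← two_mul, hK2, zero_mul], SpecialLinearGroup.transvection_coeff_zero, map_one]
      · have := congrArg (fun x : SpecialLinearGroup (Fin 2) K => (x : Matrix (Fin 2) (Fin 2) K) i j)
          (hι (h.trans (map_one ι).symm))
        simpa [SpecialLinearGroup.transvection_coe, Matrix.one_apply, hij] using this
    obtain ⟨z, c, hz0, hc, hzz, hz⟩ := involution_even hF h2 (inv2 h01 1 one_ne_zero).1 (inv2 h01 1 one_ne_zero).2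
    obtain ⟨z', c', hz'0, hc', hzz', hz'⟩ := involution_even hF h2 (inv2 h10 1 one_ne_zero).1 (inv2 h10 1 one_ne_zero).2
    have fixes : ∀ {i j : Fin 2} (hij : i ≠ j) {y : Fin 3 → F} {d : F}, y ≠ 0 → d ≠ 0 →
        Cfsg.hermForm 3 F q y y = 0 →
        (∀ x, act (ι (SpecialLinearGroup.transvection hij 1)) x = x + (d * Cfsg.hermForm 3 F q x y) • y) →
        ∀ w, Cfsg.hermForm 3 F q w y = 0 → ∀ k, act (ι (SpecialLinearGroup.transvection hij k)) w = w := by
      intro i j hij y d hy hd hyy hyv w hw k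
      rcases eq_or_ne k 0 with rfl | hk
      · rw [SpecialLinearGroup.transvection_coeff_zero, map_one, act_one]
      obtain ⟨y₁, d₁, hy₁, hd₁, hyy₁, hyv₁⟩ := involution_even hF h2 (inv2 hij k hk).1 (inv2 hij k hk).2
      have ho := centre_orth hF hd hd₁ hy hy₁ hyy hyv hyv₁ (by
        rw [← map_mul, ← map_mul, hTT, hTT, add_comm])
      obtain ⟨r, rfl⟩ := Submodule.mem_span_singleton.1
        (CfsgLib.MaxSub.SuThree.mem_span_of_iso_orth hF hy hyy hyy₁ ho)
      rw [hyv₁, herm_smul_right hf, hw, mul_zero, mul_zero, zero_smul, add_zero]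
    have hzz'0 : Cfsg.hermForm 3 F q z z' ≠ 0 := fun h0 => by
      have hc' : Commute (SpecialLinearGroup.transvection h01 (1 : K)) (SpecialLinearGroup.transvection h10 1) := by
        refine hι ?_
        rw [map_mul, map_mul]
        refine CfsgLib.Pres.SUn.eq_of_act fun x => ?_
        obtain ⟨r, rfl⟩ := Submodule.mem_span_singleton.1
          (CfsgLib.MaxSub.SuThree.mem_span_of_iso_orth hF hz0 hzz hzz' h0)
        rw [act_mul, act_mul, hz, hz', hz', hz, hf.add_left, hf.add_left, hf.smul_left, hf.smul_left,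
          herm_smul_right hf, herm_smul_right hf]
        simp only [hf.smul_left, hzz, mul_zero, add_zero, smul_smul]
        module
      have := congrArg (fun x : SpecialLinearGroup (Fin 2) K => (x : Matrix (Fin 2) (Fin 2) K) 0 0) hc'.eq
      simp [SpecialLinearGroup.transvection_coe, Matrix.mul_apply, Fin.sum_univ_two] at this
    -- a common orthogonal vector
    obtain ⟨a, ha0, haz, haz'⟩ : ∃ a : Fin 3 → F, a ≠ 0 ∧ Cfsg.hermForm 3 F q a z = 0 ∧
        Cfsg.hermForm 3 F q a z' = 0 := by
      let L : (Fin 3 → F) →ₗ[F] (Fin 2 → F) :=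
        { toFun := fun x => ![Cfsg.hermForm 3 F q x z, Cfsg.hermForm 3 F q x z']
          map_add' := fun x y => by ext i; fin_cases i <;> simp [hf.add_left]
          map_smul' := fun r x => by ext i; fin_cases i <;> simp [hf.smul_left] }
      obtain ⟨a, ha, ha0⟩ := (Submodule.ne_bot_iff _).1 (L.ker_ne_bot_of_finrank_lt (by simp))
      exact ⟨a, ha0, congrFun ha 0, congrFun ha 1⟩
    refine ⟨a, fun haa => ?_, fun h hh => ?_⟩
    · obtain ⟨r, hr⟩ := Submodule.mem_span_singleton.1
        (CfsgLib.MaxSub.SuThree.mem_span_of_iso_orth hF ha0 haa hzz haz)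
      refine hzz'0 ?_
      rw [← hr, hf.smul_left, haz', mul_zero]
    · obtain ⟨x, rfl⟩ := hιA h hh
      clear hh
      induction x using SL2.transvection_induction with
      | htransvec i j hij k =>
        have hcase : (i = 0 ∧ j = 1) ∨ (i = 1 ∧ j = 0) :=
          (by decide : ∀ i j : Fin 2, i ≠ j → (i = 0 ∧ j = 1) ∨ (i = 1 ∧ j = 0)) i j hij
        rcases hcase with ⟨rfl, rfl⟩ | ⟨rfl, rfl⟩
        · exact fixes _ hz0 hc hzz hz a haz k
        · exact fixes _ hz'0 hc' hzz' hz' a haz' k
      | hmul x y hx hy => rw [map_mul, act_mul, hy, hx]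
  · -- odd characteristic
    let m : Cfsg.SU 2 F q := ⟨⟨-1, by rw [det_neg]; simp⟩, mem_su_of_mat hF _ (by
      show (-1 : Matrix (Fin 2) (Fin 2) F)ᵀ * (-1 : Matrix (Fin 2) (Fin 2) F).map (qConj hF) = 1
      ext i j; fin_cases i <;> fin_cases j <;> simp [Matrix.mul_apply, Fin.sum_univ_two])⟩
    have hmm : m * m = 1 := mat_ext (by show (-1 : Matrix (Fin 2) (Fin 2) F) * -1 = 1; simp)
    have hm1 : m ≠ 1 := fun h => h2 (by
      have := congrFun (congrFun (congrArg mat h) 0) 0
      simp [m, mat] at this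
      linear_combination -this)
    have hmc : ∀ x, m * x = x * m := fun x => mat_ext (by
      show (-1 : Matrix (Fin 2) (Fin 2) F) * mat x = mat x * -1; simp)
    set z : Cfsg.SU 3 F q := ((e m : A) : Cfsg.SU 3 F q) with hz
    have hzz : z * z = 1 := by rw [hz, ← Subgroup.coe_mul, ← map_mul, hmm, map_one]; rfl
    have hz1 : z ≠ 1 := fun h => hm1 (e.injective (Subtype.ext (h.trans (by simp))))
    have hzc : ∀ h ∈ A, z * h = h * z := fun h hh => by
      have : e m * ⟨h, hh⟩ = ⟨h, hh⟩ * e m := e.symm.injective (by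
        rw [map_mul, map_mul, e.symm_apply_apply]; exact hmc _)
      exact congrArg Subtype.val this
    have hker : Module.finrank F (LinearMap.ker (Matrix.mulVecLin (mat z - 1))) ≤ 1 := by
      by_contra hlt
      obtain ⟨a, φ, hm, hφa⟩ := exists_tv_of_ker z (by omega)
      refine hz1 (CfsgLib.Pres.SUn.eq_of_act fun x => ?_)
      have hzx : ∀ x, act z x = x + (φ ⬝ᵥ x) • a := fun x => by rw [act_eq, hm, tvMat_mulVec]
      have h1 : act z (act z x) = x := by rw [← act_mul, hzz, act_one]
      rw [hzx (act z x), hzx x, dotProduct_add, dotProduct_smul, hφa, smul_zero, add_zero, add_assoc,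
        add_eq_left, ← two_smul F, smul_eq_zero] at h1
      rw [act_one, hzx x, h1.resolve_left h2, add_zero]
    have hfix : ∀ x, act z (act z x + x) = act z x + x := fun x => by
      rw [CfsgLib.Pres.SUn.act_add, ← act_mul, hzz, act_one, add_comm]
    obtain ⟨x₀, hx₀⟩ : ∃ x, act z x + x ≠ 0 := by
      by_contra hall
      push Not at hall
      have hd : (mat z).det = 1 := (z : SpecialLinearGroup (Fin 3) F).2
      have : mat z = -1 := Matrix.ext_of_mulVec_single fun i => by
        rw [Matrix.neg_mulVec, Matrix.one_mulVec, ← act_eq]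
        exact eq_neg_of_add_eq_zero_left (hall _)
      rw [this, det_neg, det_one] at hd
      simp at hd
      exact h2 (by linear_combination -hd)
    obtain ⟨a, hae⟩ : ∃ a, a = act z x₀ + x₀ := ⟨_, rfl⟩
    have hza : act z a = a := hae ▸ hfix x₀
    have ha0 : a ≠ 0 := hae ▸ hx₀
    have hspan : ∀ w, act z w = w → ∃ r : F, r • a = w := fun w hw => by
      have memk : ∀ w, act z w = w → w ∈ LinearMap.ker (Matrix.mulVecLin (mat z - 1)) := fun w hw => by
        rw [LinearMap.mem_ker, Matrix.mulVecLin_apply, Matrix.sub_mulVec, Matrix.one_mulVec, ← act_eq, hw, sub_self]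
      obtain ⟨v, hv⟩ := finrank_le_one_iff.1 hker
      obtain ⟨s, hs⟩ := hv ⟨a, memk a hza⟩
      obtain ⟨r, hr⟩ := hv ⟨w, memk w hw⟩
      have hs' : s • (v : Fin 3 → F) = a := congrArg Subtype.val hs
      have hr' : r • (v : Fin 3 → F) = w := congrArg Subtype.val hr
      have hs0 : s ≠ 0 := fun h => ha0 (by rw [← hs', h, zero_smul])
      exact ⟨r / s, by rw [← hs', smul_smul, div_mul_cancel₀ _ hs0, hr']⟩
    refine ⟨a, fun haa => ?_, fun h hh => ?_⟩
    · obtain ⟨⟨y, hy⟩, -⟩ := hf.nondegenerate a ha0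
      refine hy ?_
      obtain ⟨r, hr⟩ := hspan _ (hfix y)
      have h1 := congrArg (fun w => Cfsg.hermForm 3 F q w a) hr
      simp only [hf.smul_left, haa, mul_zero, hf.add_left] at h1
      have h3 : Cfsg.hermForm 3 F q (act z y) a = Cfsg.hermForm 3 F q y a := by
        conv_lhs => rw [← hza]
        exact act_herm _ _ _
      rw [h3] at h1
      exact (mul_eq_zero.1 (show 2 * Cfsg.hermForm 3 F q y a = 0 by linear_combination -h1)).resolve_left h2
    · -- the character on the fixed line is trivial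
      have hline : ∀ k : A, ∃ r : F, r • a = act (k : Cfsg.SU 3 F q) a := fun k => hspan _ (by
        rw [← act_mul, hzc _ k.2, act_mul, hza])
      choose χ hχ using hline
      have hχm : ∀ k l, χ (k * l) = χ k * χ l := fun k l => by
        refine smul_left_injective F ha0 ?_
        show χ (k * l) • a = (χ k * χ l) • a
        rw [hχ, Subgroup.coe_mul, act_mul, ← hχ l, act_smul, ← hχ k, smul_smul, mul_comm]
      let χ' : A →* F := { toFun := χ, map_one' := by
                             refine smul_left_injective F ha0 ?_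
                             show χ 1 • a = (1 : F) • a
                             rw [hχ, Subgroup.coe_one, act_one, one_smul]
                           map_mul' := hχm }
      have htriv : ∀ k, χ k = 1 := fun k => by
        let ψ : Cfsg.SU 2 F q →* Fˣ := (χ'.comp e.toMonoidHom).toHomUnits
        have hk : e.symm k ∈ ψ.ker := by
          have hle : commutator (Cfsg.SU 2 F q) ≤ ψ.ker := Abelianization.commutator_subset_ker ψ
          exact hle (by rw [su_two_commutator hF hq]; trivial)
        have := congrArg Units.val (MonoidHom.mem_ker.1 hk)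
        simpa [ψ, χ'] using this
      have := hχ ⟨h, hh⟩
      rw [htriv, one_smul] at this
      exact this.symm

/-- A cyclic subgroup of order `q + 1` of a point stabiliser is diagonal in a suitable frame. -/
theorem exists_eigen {M : Cfsg.SU 2 F q} (hM : orderOf M = q + 1) :
    ∃ (K : Cfsg.SU 2 F q) (l : F), l * qConj hF l = 1 ∧ l ^ 2 ≠ 1 ∧
      mat (K⁻¹ * M * K) = !![l, 0; 0, l⁻¹] := by
  classical
  have hf := isUnitaryForm_hermForm hF 2
  have hq2 : 2 ≤ q := CfsgLib.Pres.SUn.two_le_q hF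
  have hq1 : ((q : F) + 1) ≠ 0 := by
    obtain ⟨p, hp⟩ := CharP.exists F
    obtain ⟨N, hpp, hN⟩ := FiniteField.card F p
    have : (q : F) = 0 := by
      have h : ((q ^ 2 : ℕ) : F) = 0 := by rw [← hF]; exact Nat.cast_card_eq_zero F
      simpa using h
    rw [this, zero_add]; exact one_ne_zero
  obtain ⟨g, hg⟩ := IsCyclic.exists_generator (α := Fˣ)
  have hord : orderOf (g : F) = q ^ 2 - 1 := by
    rw [orderOf_units, orderOf_eq_card_of_forall_mem_zpowers hg, Nat.card_units, Nat.card_eq_fintype_card, hF]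
  have hfac : q ^ 2 - 1 = (q - 1) * (q + 1) := by rw [mul_comm, ← Nat.sq_sub_sq, one_pow]
  have hroot : IsPrimitiveRoot ((g : F) ^ (q - 1)) (q + 1) :=
    IsPrimitiveRoot.pow (n := q ^ 2 - 1) (by
      have : 4 ≤ q ^ 2 := le_trans (by norm_num) (Nat.pow_le_pow_left hq2 2)
      omega) (hord ▸ IsPrimitiveRoot.orderOf (g : F)) hfac
  have hMq : mat M ^ (q + 1) = 1 := by
    have h := congrArg mat (hM ▸ pow_orderOf_eq_one M : M ^ (q + 1) = 1)
    rw [mat_one] at h
    rw [← h]; rfl
  obtain ⟨l, hl, hdl⟩ : ∃ l : F, l ^ (q + 1) = 1 ∧ (mat M - l • 1).det = 0 := by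
    have h := congrArg (fun P => (Polynomial.aeval (mat M) P)) (Polynomial.X_pow_sub_one_eq_prod (by omega) hroot)
    simp only [map_sub, map_pow, Polynomial.aeval_X, map_one, hMq, sub_self] at h
    by_contra hne
    push Not at hne
    have hu : IsUnit (Polynomial.aeval (mat M)
        (∏ ζ ∈ Polynomial.nthRootsFinset (q + 1) (1 : F), (Polynomial.X - Polynomial.C ζ))) := by
      refine Finset.prod_induction _ (fun P => IsUnit (Polynomial.aeval (mat M) P))
        (fun a b ha hb => by rw [map_mul]; exact ha.mul hb) (by rw [map_one]; exact isUnit_one) fun ζ hζ => ?_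
      rw [map_sub, Polynomial.aeval_X, Polynomial.aeval_C, Algebra.algebraMap_eq_smul_one,
        Matrix.isUnit_iff_isUnit_det]
      exact (hne ζ ((Polynomial.mem_nthRootsFinset (by omega) _).1 hζ)).isUnit
    rw [← h] at hu
    exact not_isUnit_zero hu
  have hN : l * qConj hF l = 1 := by rw [qConj_apply hF, ← pow_succ']; exact hl
  have hl0 : l ≠ 0 := fun h => by rw [h, zero_mul] at hN; exact zero_ne_one hN
  have hd : (mat M).det = 1 := (M : SpecialLinearGroup (Fin 2) F).2
  rw [det_fin_two] at hd hdl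
  simp [Matrix.one_apply] at hdl
  have htr : mat M 0 0 + mat M 1 1 = l + l⁻¹ := by
    field_simp
    linear_combination -hdl + hd
  have hll : l ^ 2 ≠ 1 := by
    intro hll
    set N := mat M - l • (1 : Matrix (Fin 2) (Fin 2) F) with hN'
    have hli : l⁻¹ = l := inv_eq_of_mul_eq_one_right (by rw [← pow_two]; exact hll)
    rw [hli] at htr
    have hNN : N * N = 0 := by
      ext i j
      fin_cases i <;> fin_cases j <;> simp [hN', Matrix.mul_apply, Fin.sum_univ_two, Matrix.one_apply]
      · linear_combination -hd + (mat M 0 0) * htr + hll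
      · linear_combination (mat M 0 1) * htr
      · linear_combination (mat M 1 0) * htr
      · linear_combination -hd + (mat M 1 1) * htr + hll
    have hpow : ∀ k : ℕ, (l • mat M) ^ k = 1 + (k : F) • (l • N) := by
      intro k
      induction k with
      | zero => simp
      | succ k ih =>
        have e : l • mat M = 1 + l • N := by
          rw [hN', smul_sub, smul_smul, ← pow_two, hll, one_smul]; abel
        rw [pow_succ, ih, e, Matrix.add_mul, Matrix.one_mul, Matrix.mul_add, Matrix.mul_one, Matrix.smul_mul,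
          Matrix.smul_mul, Matrix.mul_smul, hNN, smul_zero, smul_zero, smul_zero, add_zero, Nat.cast_add,
          Nat.cast_one, add_smul, one_smul]
        abel
    have h := hpow (q + 1)
    rw [smul_pow, hl, one_smul, hMq, eq_comm, add_eq_left, smul_smul, smul_eq_zero] at h
    rcases h with h | h
    · rw [Nat.cast_add, Nat.cast_one] at h
      exact mul_ne_zero hq1 hl0 h
    · rw [hN', sub_eq_zero] at h
      have : M ^ 2 = 1 := mat_ext (by
        rw [pow_two, mat_mul, h, mat_one, Matrix.smul_mul, Matrix.one_mul, smul_smul, ← pow_two, hll, one_smul])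
      have := Nat.le_of_dvd two_pos (hM ▸ orderOf_dvd_of_pow_eq_one this)
      omega
  -- an eigenvector and the vector orthogonal to it
  obtain ⟨v, hv0, hv⟩ := Matrix.exists_mulVec_eq_zero_iff.2 (show (mat M - l • 1).det = 0 by
    rw [det_fin_two]; simp [Matrix.one_apply]; linear_combination hdl)
  rw [Matrix.sub_mulVec, Matrix.smul_mulVec, Matrix.one_mulVec, sub_eq_zero] at hv
  set σ := qConj hF with hσ
  obtain ⟨s1, s2⟩ := su_two_shape hF M
  have e0 := congrFun hv 0
  have e1 := congrFun hv 1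
  simp [Matrix.mulVec, dotProduct, Fin.sum_univ_two] at e0 e1
  have hσl : σ l = l⁻¹ := eq_inv_of_mul_eq_one_right hN
  have f0 := congrArg σ e0
  have f1 := congrArg σ e1
  rw [s1, s2] at f1 e1
  simp only [map_add, map_mul, map_neg, hσ, qConj_qConj hF] at f0 f1
  rw [← hσ, hσl] at f0 f1
  set n := v 0 * σ (v 0) + v 1 * σ (v 1) with hn
  have hn0 : n ≠ 0 := by
    intro h0
    have hh : Cfsg.hermForm 2 F q v v = 0 := by
      rw [← h0, hn]; simp [Cfsg.hermForm, Fin.sum_univ_two, hσ, qConj_apply hF]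
    let w : Fin 2 → F := ![-σ (v 1), σ (v 0)]
    have hMw : mat M *ᵥ w = l⁻¹ • w := by
      ext i; fin_cases i <;> simp [w, Matrix.mulVec, dotProduct, Fin.sum_univ_two, s1, s2]
      · linear_combination -f1
      · linear_combination f0
    have hv1 : v 1 ≠ 0 := fun h => by
      rw [h, zero_mul, add_zero] at hn
      have h00 : v 0 = 0 := by
        rcases mul_eq_zero.1 (hn.symm.trans h0) with h' | h'
        exacts [h', (map_eq_zero _).1 h']
      exact hv0 (funext fun i => by fin_cases i <;> assumption)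
    have hprop : w = (-(σ (v 1)) / v 0) • v := by
      have hv00 : v 0 ≠ 0 := fun h => by
        rw [h, zero_mul, zero_add] at hn
        rcases mul_eq_zero.1 (hn.symm.trans h0) with h' | h'
        exacts [hv1 h', hv1 ((map_eq_zero _).1 h')]
      ext i; fin_cases i <;> simp [w] <;> field_simp
      linear_combination h0 - hn
    rw [hprop, Matrix.mulVec_smul, hv, smul_smul, smul_smul] at hMw
    have hw0 : w ≠ 0 := fun h => hv1 (by simpa [w] using congrFun h 0)
    refine hll ?_
    rw [mul_comm, ← smul_smul, ← smul_smul, ← hprop] at hMw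
    have := smul_left_injective F hw0 hMw
    rw [pow_two]; nth_rewrite 2 [this]; exact mul_inv_cancel₀ hl0
  obtain ⟨t, ht⟩ := exists_norm hF (a := n⁻¹) (by
    rw [inv_pow, hn, ← qConj_apply hF, ← hσ, map_add, map_mul, map_mul, hσ, qConj_qConj hF, qConj_qConj hF,
      mul_comm (qConj hF (v 0)), mul_comm (qConj hF (v 1))])
  rw [← qConj_apply hF, ← hσ] at ht
  have htn : (t * v 0) * σ (t * v 0) + (t * v 1) * σ (t * v 1) = 1 := by
    rw [map_mul, map_mul]
    linear_combination n * ht - t * σ t * hn + mul_inv_cancel₀ hn0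
  have htn' := htn
  simp only [hσ, map_mul] at htn'
  let K : Cfsg.SU 2 F q := ⟨⟨!![t * v 0, -σ (t * v 1); t * v 1, σ (t * v 0)], by
      rw [det_fin_two_of]; linear_combination htn⟩, mem_su_of_mat hF _ (by
    show (!![t * v 0, -σ (t * v 1); t * v 1, σ (t * v 0)] : Matrix (Fin 2) (Fin 2) F)ᵀ *
      (!![t * v 0, -σ (t * v 1); t * v 1, σ (t * v 0)] : Matrix _ _ F).map (qConj hF) = 1
    rw [← hσ]
    ext i j; fin_cases i <;> fin_cases j <;>
      simp [Matrix.mul_apply, Fin.sum_univ_two, hσ, qConj_qConj hF] <;>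
      first | ring1 | linear_combination htn | linear_combination htn')⟩
  refine ⟨K, l, hN, hll, ?_⟩
  have hK : mat K = !![t * v 0, -σ (t * v 1); t * v 1, σ (t * v 0)] := rfl
  have hMK : mat M * mat K = mat K * !![l, 0; 0, l⁻¹] := by
    rw [hK]
    ext i j; fin_cases i <;> fin_cases j <;> simp [Matrix.mul_apply, Fin.sum_univ_two, s1, s2]
    · linear_combination t * e0
    · linear_combination -σ t * f1
    · linear_combination t * e1
    · linear_combination σ t * f0
  rw [mul_assoc, mat_mul, mat_mul, hMK, ← Matrix.mul_assoc, ← mat_mul, inv_mul_cancel, mat_one, Matrix.one_mul]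

/-- The coordinates of a commuting pair of tori. -/
theorem standard_pair (hq : 4 ≤ q) (A B DA DB : Subgroup (Cfsg.SU 3 F q))
    (eA : Cfsg.SU 2 F q ≃* A) (eB : Cfsg.SU 2 F q ≃* B)
    (hDA : DA ≤ A) (hcA : IsCyclic DA) (hnA : Nat.card DA = q + 1)
    (hDB : DB ≤ B) (hcB : IsCyclic DB) (hnB : Nat.card DB = q + 1)
    (htop : A ⊔ B = ⊤) (hcomm : ∀ x ∈ DA, ∀ y ∈ DB, x * y = y * x) :
    ∃ g : Cfsg.SU 3 F q, (∀ h, h ∈ A ↔ g⁻¹ * h * g ∈ (left2 (F := F) (q := q)).range) ∧
      ∀ h, h ∈ B ↔ g⁻¹ * h * g ∈ (right2 (F := F) (q := q)).range := by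
  have hq0 : q ≠ 0 := by omega
  obtain ⟨g₁, hg₁⟩ := exists_point hF hq A eA
  obtain ⟨g₂, hg₂⟩ := exists_point hF hq B eB
  obtain ⟨⟨δ, hδ⟩, hgen⟩ := hcA.exists_generator
  obtain ⟨⟨η, hη⟩, hgen'⟩ := hcB.exists_generator
  have hoδ : orderOf δ = q + 1 := by
    rw [← hnA, ← orderOf_eq_card_of_forall_mem_zpowers hgen]
    exact Subgroup.orderOf_coe ⟨δ, hδ⟩
  have hoη : η ≠ 1 := fun h => by
    have := orderOf_eq_card_of_forall_mem_zpowers hgen'
    rw [hnB, ← Subgroup.orderOf_coe] at this
    rw [show orderOf η = 1 by rw [h, orderOf_one]] at this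
    omega
  obtain ⟨M, hM⟩ := (hg₁ δ).1 (hDA hδ)
  have hoM : orderOf M = q + 1 := by
    rw [← hoδ, ← orderOf_injective _ (CfsgLib.Pres.SUn.blk_injective _) M, hM,
      show g₁⁻¹ * δ * g₁ = MulAut.conj g₁⁻¹ δ by simp]
    exact MulEquiv.orderOf_eq _ _
  obtain ⟨K, l, hl, hll, hK⟩ := exists_eigen hF hoM
  have hl0 : l ≠ 0 := fun h => by rw [h, zero_mul] at hl; exact zero_ne_one hl
  obtain ⟨g, hge⟩ : ∃ g, g = g₁ * left2 K := ⟨_, rfl⟩
  have hgA : ∀ h, h ∈ A ↔ g⁻¹ * h * g ∈ (left2 (F := F) (q := q)).range := fun h => by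
    rw [hg₁, hge, show (g₁ * left2 K)⁻¹ * h * (g₁ * left2 K) = (left2 K)⁻¹ * (g₁⁻¹ * h * g₁) * left2 K by group]
    refine ⟨fun hh => mul_mem (mul_mem (inv_mem ⟨K, rfl⟩) hh) ⟨K, rfl⟩, fun hh => ?_⟩
    have := mul_mem (mul_mem (⟨K, rfl⟩ : left2 K ∈ (left2 (F := F) (q := q)).range) hh) (inv_mem ⟨K, rfl⟩)
    simpa [mul_assoc] using this
  have hδd : mat (g⁻¹ * δ * g) = !![l, 0, 0; 0, l⁻¹, 0; 0, 0, 1] := by
    rw [hge, show (g₁ * left2 K)⁻¹ * δ * (g₁ * left2 K) = (left2 K)⁻¹ * (g₁⁻¹ * δ * g₁) * left2 K by group,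
      ← hM, ← map_inv, ← map_mul, ← map_mul, mat_left2, hK]
    simp
  obtain ⟨y, hye⟩ : ∃ y, y = g⁻¹ * η * g := ⟨_, rfl⟩
  have hy : y * (g⁻¹ * δ * g) = (g⁻¹ * δ * g) * y := by
    rw [hye, show g⁻¹ * η * g * (g⁻¹ * δ * g) = g⁻¹ * (η * δ) * g by group, ← hcomm δ hδ η hη]; group
  have hdiag : ∀ i j, i ≠ j → mat y i j = 0 := by
    intro i j hij
    have := congrFun (congrFun (congrArg mat hy) i) j
    rw [mat_mul y (g⁻¹ * δ * g), mat_mul (g⁻¹ * δ * g) y, hδd] at this
    have hl1 : l ≠ 1 := fun h => hll (by rw [h, one_pow])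
    have hli1 : l⁻¹ ≠ 1 := fun h => hl1 (inv_eq_one.1 h)
    have hli : l ≠ l⁻¹ := fun h => hll (by rw [pow_two]; nth_rewrite 2 [h]; exact mul_inv_cancel₀ hl0)
    fin_cases i <;> fin_cases j <;> simp [Matrix.mul_apply, Fin.sum_univ_three] at this hij ⊢
    all_goals
      by_contra h0
      first
        | exact hl1 (mul_right_cancel₀ h0 (by linear_combination this))
        | exact hl1 (mul_right_cancel₀ h0 (by linear_combination -this))
        | exact hli1 (mul_right_cancel₀ h0 (by linear_combination this))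
        | exact hli1 (mul_right_cancel₀ h0 (by linear_combination -this))
        | exact hli (mul_right_cancel₀ h0 (by linear_combination this))
        | exact hli (mul_right_cancel₀ h0 (by linear_combination -this))
  obtain ⟨b, hbe⟩ : ∃ b, b = act (g⁻¹ * g₂) (Pi.single 2 1) := ⟨_, rfl⟩
  have hgB : ∀ h, h ∈ B ↔ act (g⁻¹ * h * g) b = b := fun h => by
    rw [hg₂, mem_left2 hq0, hbe, ← act_mul, show g⁻¹ * h * g * (g⁻¹ * g₂) = g⁻¹ * g₂ * (g₂⁻¹ * h * g₂) by group,
      act_mul (g⁻¹ * g₂) (g₂⁻¹ * h * g₂)]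
    exact ⟨fun e => by rw [e], fun e => act_inj _ e⟩
  have hyb : act y b = b := hye ▸ (hgB η).1 (hDB hη)
  have hy0 : ∀ i, act y b i = mat y i i * b i := fun i => by
    rw [act_eq, Matrix.mulVec, dotProduct, Finset.sum_eq_single i (fun j _ hj => by
      rw [hdiag i j hj.symm, zero_mul]) (fun h => absurd (Finset.mem_univ i) h)]
  have hone : ∀ i, b i ≠ 0 → mat y i i = 1 := fun i hi => by
    have := congrFun hyb i
    rw [hy0] at this
    exact mul_right_cancel₀ hi (by rw [this, one_mul])
  have huniq : ∀ i j, b i ≠ 0 → b j ≠ 0 → i = j := by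
    intro i j hi hj
    by_contra hij
    have h1 := hone i hi
    have h2 := hone j hj
    have hd : (mat y).det = 1 := (y : SpecialLinearGroup (Fin 3) F).2
    have hd' : mat y = diagonal fun i => mat y i i := by
      ext r s; rcases eq_or_ne r s with rfl | h
      · simp
      · rw [hdiag r s h, diagonal_apply_ne _ h]
    rw [hd', det_diagonal, Fin.prod_univ_three] at hd
    refine hoη ?_
    have hy1 : y = 1 := mat_ext (by
      rw [hd', mat_one, ← diagonal_one]
      congr 1; funext r
      fin_cases i <;> fin_cases j <;> first | exact absurd rfl hij | skip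
      all_goals
        simp at h1 h2
        rw [h1, h2] at hd
        simp at hd
        fin_cases r <;> simp [h1, h2, hd])
    rw [hy1] at hye
    calc η = g * (g⁻¹ * η * g) * g⁻¹ := by group
      _ = 1 := by rw [← hye]; group
  have hb0 : b ≠ 0 := fun h => by
    have := act_inv_of (hbe.symm.trans h)
    rw [act, Matrix.mulVec_zero] at this
    simpa using congrFun this.symm 2
  obtain ⟨k, hk⟩ := Function.ne_iff.1 hb0
  have hbk : b = b k • Pi.single k 1 := by
    ext i
    rcases eq_or_ne i k with rfl | hik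
    · simp
    · simp [hik]
      by_contra h0
      exact hik (huniq i k h0 hk)
  have hstab : ∀ h, h ∈ B ↔ act (g⁻¹ * h * g) (Pi.single k 1) = Pi.single k 1 := fun h => by
    rw [hgB]
    conv_lhs => rw [hbk, act_smul]
    exact ⟨fun e => smul_right_injective _ hk e, fun e => by rw [e]⟩
  obtain ⟨W, hW⟩ := exists_weyl hF
  rcases (show k = 0 ∨ k = 1 ∨ k = 2 by fin_cases k <;> simp) with rfl | rfl | rfl
  · exact ⟨g, hgA, fun h => by rw [hstab, mem_right2 hq0]⟩
  · refine ⟨g * left2 W, fun h => ?_, fun h => ?_⟩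
    · rw [hgA, show (g * left2 W)⁻¹ * h * (g * left2 W) = (left2 W)⁻¹ * (g⁻¹ * h * g) * left2 W by group]
      refine ⟨fun hh => mul_mem (mul_mem (inv_mem ⟨W, rfl⟩) hh) ⟨W, rfl⟩, fun hh => ?_⟩
      have := mul_mem (mul_mem (⟨W, rfl⟩ : left2 W ∈ (left2 (F := F) (q := q)).range) hh) (inv_mem ⟨W, rfl⟩)
      simpa [mul_assoc] using this
    · have hW0 : act (left2 W) (Pi.single 0 1) = (-1 : F) • Pi.single 1 1 := by
        rw [act_eq, mat_left2, hW]
        ext i; fin_cases i <;> simp
      rw [hstab, mem_right2 hq0, show (g * left2 W)⁻¹ * h * (g * left2 W) =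
        (left2 W)⁻¹ * ((g⁻¹ * h * g) * left2 W) by group, act_mul (left2 W)⁻¹, act_mul (g⁻¹ * h * g) (left2 W),
        hW0, act_smul]
      constructor
      · intro e; rw [e]; exact act_inv_of hW0
      · intro e
        have e' := congrArg (act (left2 W)) e
        rw [act_act_inv, hW0] at e'
        exact smul_right_injective _ (neg_ne_zero.2 one_ne_zero) e'
  · exfalso
    have hBA : B ≤ A := fun h hh => by rw [hgA, mem_left2 hq0]; exact (hstab h).1 hh
    rw [sup_eq_left.2 hBA] at htop
    have : g * right2 W * g⁻¹ ∈ A := htop ▸ Subgroup.mem_top _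
    rw [hgA, mem_left2 hq0, show g⁻¹ * (g * right2 W * g⁻¹) * g = right2 W by group, act_eq, mat_right2, hW] at this
    have := congrFun this 1
    simp at this

end CfsgLib.Recog.Phan.Norm
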